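import Groth.Agent.Vanish.K910.Dev
import Groth.Agent.VarietyB.ClosedInter
import Groth.Agent.Fga.HodgePush
import Mathlib.AlgebraicGeometry.Morphisms.SchemeTheoreticallyDominant

/-!
# Global sections and inverse images

* `HZ_pull`: `h⁰(W, f^*L) = h⁰(X, L ⊗ f_* O_W)`;
* `HZ_le_pull`: `h⁰(X, L) ≤ h⁰(W, f^*L)` for `f` dominant, `X` integral;
* `HZ_pull_eq`: equality if `O_X = f_* O_W`.
-/

set_option autoImplicit false
universe u
open CategoryTheory CategoryTheory.Limits AlgebraicGeometry TopologicalSpace

namespace K88.PullH0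

open Groth.Agent Groth.Agent.Fga Groth.Agent.Fga.PicMon Groth.Agent.Fga.RegSec K910.HZ K910.IL

variable {k : Type u} [Field k] {X W : Scheme.{u}} [X.Over (Spec (CommRingCat.of k))]
  [W.Over (Spec (CommRingCat.of k))] (f : W ⟶ X)
  (hf : f ≫ (X ↘ Spec (CommRingCat.of k)) = W ↘ Spec (CommRingCat.of k))

include hf in
theorem HZ_push (G : W.Modules) : HZ k X (mc ((Coh.push f).obj G)) = HZ k W (mc G) := by
  rw [HZ_mc, HZ_mc]
  exact VarietyB.ClosedInter.finrank_hZero_push k f hf G

include hf in
theorem HZ_pull {L : X.Modules} (hL : PicF.IsInvertible L) :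
    HZ k W (mc ((Scheme.Modules.pullback f).obj L)) =
      HZ k X (mc L * mc ((Coh.push f).obj (Coh.structureModule W))) := by
  have h := mc_eq (VarietyB.ProjForm.projIso f (MultInt.hasBases hL) (Coh.structureModule W))
  rw [mc_tensor] at h
  change mc L * mc ((Coh.push f).obj (Coh.structureModule W)) = _ at h
  rw [h]
  change _ = HZ k X (mc ((Coh.push f).obj _))
  rw [HZ_push f hf, mc_tensor, mc_one, mul_one]

include hf in
/-- `h⁰(X, L) = h⁰(W, f^*L)` if `O_X = f_* O_W`. -/
theorem HZ_pull_eq (h : IsIso (ClSub.unitToPush f)) {L : X.Modules} (hL : PicF.IsInvertible L) :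
    HZ k W (mc ((Scheme.Modules.pullback f).obj L)) = HZ k X (mc L) := by
  rw [HZ_pull f hf hL]
  have e : mc ((Coh.push f).obj (Coh.structureModule W)) = 1 := by
    rw [← mc_one]
    exact (mc_eq (asIso (ClSub.unitToPush f))).symm
  rw [e, mul_one]

omit [X.Over (Spec (CommRingCat.of k))] [W.Over (Spec (CommRingCat.of k))] [Field k] in
theorem mono_of_app_injective {M N : X.Modules} (g : M ⟶ N)
    (h : ∀ U : X.Opens, Function.Injective (g.app U)) : Mono g := by
  constructor
  intro A a b hab
  ext U x
  apply h U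
  have := congrArg (fun φ => φ.app U x) hab
  simpa using this

omit [X.Over (Spec (CommRingCat.of k))] [W.Over (Spec (CommRingCat.of k))] [Field k] in
theorem mono_unitToPush [QuasiCompact f] [IsReduced X] [IsDominant f] : Mono (ClSub.unitToPush f) := by
  have := IsSchemeTheoreticallyDominant.of_isDominant f
  refine mono_of_app_injective _ fun U => ?_
  exact f.app_injective U

variable [IsProper (X ↘ Spec (CommRingCat.of k))] [IsProper (W ↘ Spec (CommRingCat.of k))]

include hf in
/-- `h⁰(X, L) ≤ h⁰(W, f^*L)` for a dominant morphism. -/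
theorem HZ_le_pull [IsReduced X] [IsDominant f] {L : X.Modules} (hL : PicF.IsInvertible L) :
    HZ k X (mc L) ≤ HZ k W (mc ((Scheme.Modules.pullback f).obj L)) := by
  have := IntAdd.isNoetherian k X
  have := IntAdd.isNoetherian k W
  have hfp : IsProper f := by
    have : IsProper (f ≫ (X ↘ Spec (CommRingCat.of k))) := by rw [hf]; infer_instance
    exact IsProper.of_comp f (X ↘ Spec (CommRingCat.of k))
  have hO : Coh.IsCoh (Coh.structureModule X) :=
    HodgeSec.isCoh_of_isInvertible Fdesc.LocGen.isInvertible_structureModule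
  have hOW : Coh.IsCoh (Coh.structureModule W) :=
    HodgeSec.isCoh_of_isInvertible Fdesc.LocGen.isInvertible_structureModule
  have hP : Coh.IsCoh ((Scheme.Modules.pushforward f).obj (Coh.structureModule W)) := HodgePush.isCoh_push f hOW
  have hm := mono_unitToPush f
  have hS : (ShortComplex.mk (ClSub.unitToPush f) (cokernel.π _) (cokernel.condition _)).ShortExact :=
    { exact := ShortComplex.exact_cokernel _
      mono_f := hm
      epi_g := inferInstanceAs (Epi (cokernel.π _)) }
  have h := (HZ_le_of_shortExact k _ hS hO hP (Sga67.CohBasic.isCoh_cokernel _ hO.1 hP) (inv_mc hL)).1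
  rw [HZ_pull f hf hL]
  rw [mc_one, mul_one] at h
  exact h

end K88.PullH0
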