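import Groth.Agent.Vanish.K88.BtoA
import Groth.Agent.Vanish.K88.PullH0
import Groth.Agent.PosLin.K931.BigGrowth

/-!
# S16905, (a) ⟹ (b): bigness of pull-backs, division by big classes
-/

set_option autoImplicit false
universe u
open CategoryTheory CategoryTheory.Limits AlgebraicGeometry TopologicalSpace

namespace K88.BigPull

open Groth.Agent Groth.Agent.Fga Groth.Agent.Fga.PicMon K910.HZ K910.IL K909.InterML K909.Kleiman
  Groth.Agent.Grpsch.PicGrp K931.Eff K660.Semi Groth.Agent.Fdesc.LocGen Groth.Agent.Fga.JacFactor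
  K931.BigGrowth Groth.Agent.Divis.EffCartier

variable (k : Type u) [Field k]

/-- The pull-back of an ample class along a dominant morphism of varieties of the same dimension is big. -/
theorem big_pull {Y P : Scheme.{u}} [Y.Over (Spec (CommRingCat.of k))] [P.Over (Spec (CommRingCat.of k))]
    [IsProper (Y ↘ Spec (CommRingCat.of k))] [IsProper (P ↘ Spec (CommRingCat.of k))] [IsIntegral Y] [IsIntegral P]
    (m : ℕ) (hY : topologicalKrullDim Y = m) (hP : topologicalKrullDim P = m) (ρ : Y ⟶ P) [IsDominant ρ]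
    (hρ : ρ ≫ (P ↘ Spec (CommRingCat.of k)) = Y ↘ Spec (CommRingCat.of k)) {A : P.Modules}
    (hA : CohB1.IsAmple A) {H : Y.Modules} (hH : CohB1.IsAmple H) : Big (pull ρ (mk A hA.1)) := by
  have := K931.Basic.isNoetherian k P
  have := K931.Basic.isSeparated k P
  have hAρ := isInvertible_pullback ρ hA.1
  have h1 : Growth k A m := growth_of_big k m hP hA hA.1
    ((big_mk_iff hA.1).mp (Amp.big ((amp_mk hA.1).mpr hA)))
  have h2 : Growth k ((Scheme.Modules.pullback ρ).obj A) m := by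
    rw [growth_iff] at h1 ⊢
    obtain ⟨C, hC, m₁, h⟩ := h1
    refine ⟨C, hC, m₁, fun μ hμ => (h μ hμ).trans ?_⟩
    have h3 := PullH0.HZ_le_pull (k := k) ρ hρ (isInvertible_tensorPow hA.1 μ)
    rw [mc_tensorPow] at h3
    have h4 : mc ((Scheme.Modules.pullback ρ).obj (CohB1.tensorPow A μ)) = mc ((Scheme.Modules.pullback ρ).obj A) ^ μ := by
      have h5 : mk _ (isInvertible_pullback ρ (isInvertible_tensorPow hA.1 μ)) = mk _ hAρ ^ μ := by
        rw [← pull_mk ρ (isInvertible_tensorPow hA.1 μ), mk_tensorPow hA.1, map_pow, pull_mk ρ hA.1]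
      have h6 := congrArg (Pic13.H970.IntForm.toMC Y) h5
      rwa [map_pow] at h6
    rw [h4] at h3
    exact_mod_cast h3
  rw [pull_mk, big_mk_iff hAρ]
  exact big_of_growth k m hY hH hAρ h2

/-- `O(D)` is effective. -/
theorem eff_dcl_inv {X : Scheme.{u}} [IsIntegral X] {D : X.IdealSheafData} (hD : BlowUp.IsEffCartierIdeal D) :
    Eff (dcl D hD)⁻¹ :=
  GrowthUp.eff_inv_of_mono _ (ClSub.idealModι D) (inferInstanceAs (Mono (kernel.ι _)))

theorem aux {G : Type*} [CommGroup G] (c b h : G) (q a : ℕ) :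
    (c ^ q * b⁻¹) ^ a * ((c ^ a / h) ^ q * b⁻¹ ^ a)⁻¹ = h ^ q := by
  rw [mul_inv_eq_iff_eq_mul, mul_pow (c ^ q), ← mul_assoc, ← mul_pow h, mul_div_cancel, ← pow_mul, ← pow_mul,
    mul_comm a q]

/-- A big class times an effective one is big, in the form needed. -/
theorem exists_div {X : Scheme.{u}} [IsIntegral X] [CompactSpace X] [X.IsSeparated] {c : Pic X} (hc : Big c)
    {H : X.Modules} (hH : CohB1.IsAmple H) (q : ℕ) {B : X.IdealSheafData} (hq : 0 < q)
    (hB : BlowUp.IsEffCartierIdeal B) : ∃ (a : ℕ) (h : Pic X) (D : X.IdealSheafData)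
      (hD : BlowUp.IsEffCartierIdeal D), 0 < a ∧ Amp h ∧ (c ^ q * (dcl B hB)⁻¹) ^ a * dcl D hD = h := by
  have hamp : Amp (mk H hH.1) := (amp_mk hH.1).mpr hH
  obtain ⟨a, ha, he⟩ := hc _ hamp
  have h1 : Eff ((c ^ a / mk H hH.1) ^ q * ((dcl B hB)⁻¹) ^ a) := (he.pow q).mul ((eff_dcl_inv hB).pow a)
  obtain ⟨D, hD, hDe⟩ := Eff.exists_div h1
  refine ⟨a, mk H hH.1 ^ q, D, hD, ha, hamp.pow hq, ?_⟩
  rw [hDe]
  exact aux _ _ _ _ _

end K88.BigPull
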