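import Groth.Prelude.Def_EGA4Misc
import Groth.Agent.Models.K380.Bir
import Mathlib.Topology.Sober

/-!
# Birational morphisms of integral schemes in terms of the generic stalks
-/

set_option autoImplicit false
universe u
open CategoryTheory CategoryTheory.Limits AlgebraicGeometry TopologicalSpace

namespace K88.Birat

variable {X Z : Scheme.{u}} [IsIntegral X] [IsIntegral Z] {τ : Z ⟶ X}

theorem gen_of_birational (h : RadPt.IsBirational τ) : τ (genericPoint Z) = genericPoint X := by
  have h1 := h.1.mapsTo (x := genericPoint Z) (by rw [genericPoints_eq_singleton]; rfl)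
  rwa [genericPoints_eq_singleton] at h1

theorem bijective_residue (x : X) (hx : x = genericPoint X) : Function.Bijective (X.residue x).hom := by
  subst hx
  refine ⟨?_, Ideal.Quotient.mk_surjective⟩
  letI : Field (X.presheaf.stalk (genericPoint X)) := inferInstanceAs (Field X.functionField)
  exact (X.residue (genericPoint X)).hom.injective

theorem isIso_stalkMap_of_birational (h : RadPt.IsBirational τ) : IsIso (τ.stalkMap (genericPoint Z)) := by
  have hg := gen_of_birational h
  have h1 := (h.2 (genericPoint X) (by rw [genericPoints_eq_singleton]; rfl)).2 (genericPoint Z) hg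
  have h2 : Function.Bijective (X.residue (τ (genericPoint Z)) ≫ τ.residueFieldMap (genericPoint Z)).hom := by
    rw [CommRingCat.hom_comp]
    exact h1.comp (bijective_residue _ hg)
  rw [Scheme.residue_residueFieldMap, CommRingCat.hom_comp] at h2
  rw [ConcreteCategory.isIso_iff_bijective]
  exact (Function.Bijective.of_comp_iff' (bijective_residue (genericPoint Z) rfl) _).mp h2

theorem surjective_of_birational [IsProper τ] (h : RadPt.IsBirational τ) : Surjective τ := by
  have hg := gen_of_birational h
  refine ⟨fun x => ?_⟩
  have h1 : IsClosed (Set.range τ) := τ.isClosedMap.isClosed_range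
  have h2 : genericPoint X ∈ Set.range τ := ⟨_, hg⟩
  have h3 : closure {genericPoint X} ⊆ Set.range τ := h1.closure_subset_iff.mpr (Set.singleton_subset_iff.mpr h2)
  rw [genericPoint_closure] at h3
  exact h3 trivial

theorem isIso_unitToPush_of_birational [IsProper τ] (h : RadPt.IsBirational τ)
    (hX : ∀ x : X, IsIntegrallyClosed (X.presheaf.stalk x)) : IsIso (ClSub.unitToPush τ) :=
  K380.Bir.isIso_unitToPush τ
    (K380.Bir.isIso_app τ hX (gen_of_birational h) (isIso_stalkMap_of_birational h))

end K88.Birat
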