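import Groth.Agent.Vanish.K88.GrowthUp
import Groth.Agent.Vanish.K88.Birat
import Groth.Agent.Fga.PosZero

/-!
# Semi-ample birational models imply `κ = ν`
-/

set_option autoImplicit false
universe u
open CategoryTheory CategoryTheory.Limits AlgebraicGeometry TopologicalSpace

namespace K88.BtoA

open Groth.Agent Groth.Agent.Fga Groth.Agent.Fga.PicMon K910.HZ K910.IL K909.InterML K909.Kleiman
  Groth.Agent.Grpsch.PicGrp Groth.Agent.Pic13.H970.IntForm K931.Eff K660.Semi Groth.Agent.Fdesc.LocGen K88.GrowthUp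

section nef

variable {k : Type u} [Field k]

theorem curveDeg_eq_dg {Y : Scheme.{u}} (p : Y ⟶ Spec (CommRingCat.of k)) [IsProper p]
    (hY : topologicalKrullDim Y = 1) (L : Y.Modules) : Pic13.curveDeg k p L = K432.CurveDeg.dg p L := by
  letI : Y.Over (Spec (CommRingCat.of k)) := ⟨p⟩
  haveI : IsProper (Y ↘ Spec (CommRingCat.of k)) := inferInstanceAs (IsProper p)
  have := IntAdd.isNoetherian k Y
  unfold Pic13.curveDeg
  unfold K432.CurveDeg.dg
  unfold Curv2.deg
  have h1 : topologicalKrullDim Y ≤ (1 : ℕ) := by rw [hY]; rfl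
  rw [EulerLEAdd.eulerCharLE_eq_euler k Y 1 h1, EulerLEAdd.eulerCharLE_eq_euler k Y 1 h1]
  simp

theorem nef_iff_nef {X : Scheme.{u}} [X.Over (Spec (CommRingCat.of k))] [IsProper (X ↘ Spec (CommRingCat.of k))]
    {L : X.Modules} (hL : PicF.IsInvertible L) :
    K909.Kleiman.Nef k X L ↔ K432.NefBasic.Nef (X ↘ Spec (CommRingCat.of k)) L := by
  constructor
  · intro h C hC hdim
    have h1 := h C.subscheme C.subschemeι hC (by rw [K432.NefBasic.topologicalKrullDim_subscheme, hdim])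
    rwa [curveDeg_eq_dg _ (by rw [K432.NefBasic.topologicalKrullDim_subscheme, hdim])] at h1
  · intro h Y i _ hY hdim
    rw [curveDeg_eq_dg _ hdim]
    exact h.dg_nonneg hL hdim i

/-- Nefness descends along proper surjective morphisms. -/
theorem nef_of_surjective {X Z : Scheme.{u}} [X.Over (Spec (CommRingCat.of k))] [Z.Over (Spec (CommRingCat.of k))]
    [IsProper (X ↘ Spec (CommRingCat.of k))] [IsProper (Z ↘ Spec (CommRingCat.of k))] (τ : Z ⟶ X)
    (hτ : τ ≫ (X ↘ Spec (CommRingCat.of k)) = Z ↘ Spec (CommRingCat.of k)) [Surjective τ] {L : X.Modules}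
    (hL : PicF.IsInvertible L) (h : K909.Kleiman.Nef k Z ((Scheme.Modules.pullback τ).obj L)) :
    K909.Kleiman.Nef k X L := by
  have hp : IsProper τ := by
    have : IsProper (τ ≫ (X ↘ Spec (CommRingCat.of k))) := by rw [hτ]; infer_instance
    exact IsProper.of_comp τ (X ↘ Spec (CommRingCat.of k))
  rw [nef_iff_nef hL]
  rw [nef_iff_nef (isInvertible_pullback τ hL), ← hτ] at h
  exact K432.NefSurj.Nef.of_surjective τ hL h

end nef

section nu

variable (k : Type u) [Field k] {X : Scheme.{u}} [X.Over (Spec (CommRingCat.of k))]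
  [IsProper (X ↘ Spec (CommRingCat.of k))]

/-- The numerical dimension of a class. -/
theorem exists_nu [Nonempty X] (n : ℕ) (hn : topologicalKrullDim X = n) (c : Pic X) :
    ∃ m : ℕ, (∀ (V : Scheme.{u}) (i : V ⟶ X) [IsClosedImmersion i], IsIntegral V →
        topologicalKrullDim V = ((m + 1 : ℕ) : WithBot ℕ∞) → inter k X n (OZ i) (fun _ : Fin (m + 1) => c) = 0) ∧
      ∃ (V : Scheme.{u}) (i : V ⟶ X), IsClosedImmersion i ∧ IsIntegral V ∧ topologicalKrullDim V = (m : ℕ) ∧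
        inter k X n (OZ i) (fun _ : Fin m => c) ≠ 0 := by
  classical
  have := IntAdd.isNoetherian k X
  let P : ℕ → Prop := fun m => ∃ (V : Scheme.{u}) (i : V ⟶ X), IsClosedImmersion i ∧ IsIntegral V ∧
    topologicalKrullDim V = (m : ℕ) ∧ inter k X n (OZ i) (fun _ : Fin m => c) ≠ 0
  have h0 : P 0 := by
    obtain ⟨V, i, hi, hV, hdim⟩ := K910.NoGrowth.exists_point X
    refine ⟨V, i, hi, hV, hdim, ?_⟩
    rw [inter_zero]
    exact (PosZero.euler_pos k X n _ (isCoh_OZ i) (by rw [dim_OZ, hdim]; rfl)).ne'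
  have hmax := Nat.findGreatest_spec (P := P) (Nat.zero_le n) h0
  refine ⟨Nat.findGreatest P n, fun V i _ hV hdim => ?_, hmax⟩
  by_contra hne
  have hle : Nat.findGreatest P n + 1 ≤ n := by
    have h1 := dim_le_of_closed i
    rw [hdim, hn] at h1
    exact_mod_cast h1
  have h2 : P (Nat.findGreatest P n + 1) := ⟨V, i, inferInstance, hV, hdim, hne⟩
  have h3 := Nat.le_findGreatest hle h2
  omega

end nu

section main

variable (k : Type u) [Field k] {X : Scheme.{u}} [X.Over (Spec (CommRingCat.of k))]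
  [IsProper (X ↘ Spec (CommRingCat.of k))]

theorem nefA_of_nef {H H' : X.Modules} (hH : CohB1.IsAmple H) (hHH' : mc H' * mc H = 1) {N N' : X.Modules}
    (hN : PicF.IsInvertible N) (hN' : PicF.IsInvertible N') (hNN' : mc N' * mc N = 1) (hnef : Nef k X N) (n : ℕ)
    (hn : topologicalKrullDim X ≤ n) : K910.Nef.NefA (mc H') (mc N') := by
  refine ⟨inv_mc hN', fun ν hν => ⟨_, (nef_iff k (K931.NakC.nak k) X n hn N H hN hH).mp hnef ν hν, ?_⟩⟩
  rw [mc_tensor, mc_tensorPow]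
  calc mc N ^ ν * mc H * (mc N' ^ ν * mc H') = (mc N' * mc N) ^ ν * (mc H' * mc H) := by
        rw [mul_pow]; simp only [mul_assoc, mul_comm, mul_left_comm]
    _ = 1 := by rw [hNN', hHH', one_pow, one_mul]

theorem main [IsIntegral X] (hX : ∀ x : X, IsIntegrallyClosed (X.presheaf.stalk x)) (n : ℕ)
    (hn : topologicalKrullDim X = n) (H : X.Modules) (hH : CohB1.IsAmple H) (N Ninv : X.Modules)
    (hN : PicF.IsInvertible N) (hNinv : ClSub.IsInverseOf Ninv N)
    (Z : Scheme.{u}) [Z.Over (Spec (CommRingCat.of k))] [IsProper (Z ↘ Spec (CommRingCat.of k))] [IsIntegral Z]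
    (A : Z.Modules) (hA : CohB1.IsAmple A) (τ : Z ⟶ X)
    (hτ : τ ≫ (X ↘ Spec (CommRingCat.of k)) = Z ↘ Spec (CommRingCat.of k)) (hbir : RadPt.IsBirational τ)
    (μ₀ : ℕ) (hμ₀ : 0 < μ₀) {E : Z.Modules} (hE : PicF.IsInvertible E) (ι : E ⟶ Coh.structureModule Z) (hι : Mono ι)
    (hsa : ∀ μ : ℕ, 0 < μ → μ₀ ∣ μ → ∃ s : ℕ, 0 < s ∧ Curv2.IsGloballyGenerated (CohB1.tensorPow
      (CohB1.tensorMod ((Scheme.Modules.pullback τ).obj (CohB1.tensorPow N μ)) E) s)) :
    Nef k X N ∧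
      ∃ m : ℕ, ((∀ (V : Scheme.{u}) (i : V ⟶ X) [IsClosedImmersion i], IsIntegral V → topologicalKrullDim V = ((m + 1) : ℕ) →
          FGA.intNum k X n (fun _ : Fin (m + 1) => Ninv) ((Scheme.Modules.pushforward i).obj (Coh.structureModule V)) = 0) ∧ ¬ (∀ (V : Scheme.{u}) (i : V ⟶ X) [IsClosedImmersion i], IsIntegral V → topologicalKrullDim V = ((m) : ℕ) →
          FGA.intNum k X n (fun _ : Fin (m) => Ninv) ((Scheme.Modules.pushforward i).obj (Coh.structureModule V)) = 0)) ∧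
        ((∃ ν a : ℕ, 0 < ν ∧ 0 < a ∧ ∀ μ : ℕ, 1 ≤ μ →
          μ ^ (m) ≤ a * Module.finrank k (Coh.HH X (CohB1.tensorPow N (ν * μ)) 0)) ∧ ¬ (∃ ν a : ℕ, 0 < ν ∧ 0 < a ∧ ∀ μ : ℕ, 1 ≤ μ →
          μ ^ (m + 1) ≤ a * Module.finrank k (Coh.HH X (CohB1.tensorPow N (ν * μ)) 0))) := by
  have := IntAdd.isNoetherian k X
  have := IntAdd.isNoetherian k Z
  have hsX := HypSec.isSeparated k X
  have hsZ := HypSec.isSeparated k Z
  have hp : IsProper τ := by
    have : IsProper (τ ≫ (X ↘ Spec (CommRingCat.of k))) := by rw [hτ]; infer_instance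
    exact IsProper.of_comp τ (X ↘ Spec (CommRingCat.of k))
  have hsurj := Birat.surjective_of_birational hbir
  have hpush := Birat.isIso_unitToPush_of_birational hbir hX
  -- classes
  have hcl : ∀ μ : ℕ, 0 < μ → μ₀ ∣ μ → SA (pull τ (mk N hN) ^ μ * mk E hE) := by
    intro μ hμ hd
    have hNμ := isInvertible_tensorPow hN μ
    have hPμ := isInvertible_pullback τ hNμ
    have e : pull τ (mk N hN) ^ μ * mk E hE = mk _ (isInvertible_tensorMod hPμ hE) := by
      rw [← mk_mul_mk hPμ hE, ← pull_mk τ hNμ, mk_tensorPow hN, map_pow]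
    rw [e, sa_mk]
    exact hsa μ hμ hd
  have hEff : Eff (mk E hE)⁻¹ := eff_inv_of_mono hE ι hι
  have hLZ := isInvertible_pullback τ hN
  have hnefZ : Nef k Z ((Scheme.Modules.pullback τ).obj N) := by
    rw [nef_iff_nefC k Z hLZ, ← pull_mk τ hN]
    exact nef_of_sa k hμ₀ hcl hA
  have hnef : Nef k X N := nef_of_surjective τ hτ hN hnefZ
  refine ⟨hnef, ?_⟩
  have hNi : PicF.IsInvertible Ninv := by
    obtain ⟨e⟩ := hNinv
    exact IntAdd.isInvertible_of_tensor (Ega2.Tens.swap N Ninv ≪≫ e)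
  have hNN' : mc Ninv * mc N = 1 := by
    rw [← mc_tensor, ← mc_one]
    exact (mc_eq_iff _ _).2 hNinv
  obtain ⟨H', hH', hHH'⟩ := K910.Growth.exists_inv hH.1
  have hHZ : ∀ m, Module.finrank k (Coh.HH X (CohB1.tensorPow N m) 0) = HZ k X (mc N ^ m) := by
    intro m
    rw [← mc_tensorPow, HZ_mc]
  obtain ⟨m, hm1, V, i, hi, hV, hdim, hne⟩ := exists_nu k n hn (mk N hN)
  have hint : ∀ (r : ℕ) (F : X.Modules), inter k X n F (fun _ : Fin r => mk N hN) =
      FGA.intNum k X n (fun _ : Fin r => Ninv) F := by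
    intro r F
    exact inter_mk k X n F (fun _ => N) (fun _ => Ninv) (fun _ => hN) (fun _ => hNi) (fun _ =>
      (mc_eq_iff _ _).1 (by rw [mc_tensor, mul_comm, hNN', mc_one]))
  have hm1' : ∀ (V : Scheme.{u}) (i : V ⟶ X) [IsClosedImmersion i], IsIntegral V →
      topologicalKrullDim V = ((m + 1) : ℕ) →
      FGA.intNum k X n (fun _ : Fin (m + 1) => Ninv) ((Scheme.Modules.pushforward i).obj (Coh.structureModule V)) = 0 := by
    intro V i _ hV hdim
    rw [← hint]
    exact hm1 V i hV hdim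
  refine ⟨m, ⟨hm1', fun h => hne ?_⟩, ?_, ?_⟩
  · rw [hint]
    exact h V i hV hdim
  · -- growth
    obtain ⟨e, he⟩ := EtpbcA.CdFinDim.exists_dim_le (Z ↘ Spec (CommRingCat.of k))
    obtain ⟨V', j, hj, hV', hdim', hne'⟩ := Lift.inter_ne_zero τ hτ hA hH hN hnef hnefZ hn.le he i hdim hne
    obtain ⟨ν, a, hν, ha, hg⟩ := growth_of_sa k hEff hμ₀ hcl he m j hdim' hne'
    refine ⟨ν, a, hν, ha, fun μ hμ => (hg μ hμ).trans (le_of_eq ?_)⟩
    rw [hHZ, pull_mk τ hN, hz_mk_pow k, ← K910.NefGrowth.mc_pull_pow τ hN,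
      PullH0.HZ_pull_eq τ hτ hpush (isInvertible_tensorPow hN _), mc_tensorPow]
  · simp only [hHZ]
    refine K910.NoGrowth.not_growth k hn.le hH hH' hHH' hN hNi hNN' (nefA_of_nef k hH hHH' hN hNi hNN' hnef n hn.le)
      (m + 1) ?_
    intro V i _ hV hdim
    rw [IL_replicate]
    exact hm1' V i hV hdim

end main

end K88.BtoA
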