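import Groth.Agent.Vanish.K88.AtoB
import Groth.Agent.Vanish.K88.BtoA
import Groth.Agent.Resolve.K377.NormSch
import Groth.Agent.Curves.K323.NormBC
import Groth.Agent.S1628

/-!
# S16905 from the Iitaka fibration, the saturation lemma and weak resolution
-/

set_option autoImplicit false
universe u
open CategoryTheory CategoryTheory.Limits AlgebraicGeometry TopologicalSpace

namespace K88.Row

open K84.Iface K660 Groth.Agent K909.Kleiman Groth.Agent.Grpsch.PicGrp Groth.Agent.Fga.JacFactor K931.Eff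
  K660.Semi Groth.Agent.Fdesc.LocGen Groth.Agent.Divis.EffCartier

/-- Iitaka fibrations with values in a projective space, birational form. -/
def IitB (k : Type u) [Field k] : Prop :=
  ∀ {X : Scheme.{u}} [X.Over (Spec (CommRingCat.of k))] [IsIntegral X] [IsProper (X ↘ Spec (CommRingCat.of k))]
    (H : X.Modules) (_ : CohB1.IsAmple H) (L : X.Modules) (hL : PicF.IsInvertible L) (m : ℕ)
    (_ : ∃ ν a : ℕ, 0 < ν ∧ 0 < a ∧ ∀ μ : ℕ, 1 ≤ μ →
      μ ^ m ≤ a * Module.finrank k (Coh.HH X (CohB1.tensorPow L (ν * μ)) 0)),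
    ∃ (e : ℕ) (X' : Scheme.{u}) (π : X' ⟶ X) (H' : X'.Modules) (φ : X' ⟶ CohB1.ProjSpace m k)
      (E : X'.IdealSheafData) (hE : BlowUp.IsEffCartierIdeal E) (hO : PicF.IsInvertible (Twist.twistProjSpace m k 1)),
      0 < e ∧ IsIntegral X' ∧ IsProper π ∧ IsBir π ∧ CohB1.IsAmple H' ∧ Surjective φ ∧
        φ ≫ CohB1.ProjSpace.toSpec m k = π ≫ (X ↘ Spec (CommRingCat.of k)) ∧
        pull π (mk L hL) ^ e * dcl E hE = pull φ (mk (Twist.twistProjSpace m k 1) hO)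

theorem isIntegral_of_smooth {k : Type u} [Field k] {X : Scheme.{u}} (f : X ⟶ Spec (CommRingCat.of k)) [Smooth f]
    [IrreducibleSpace X] : IsIntegral X := by
  have h : ∀ x : X, _root_.IsReduced (X.presheaf.stalk x) := fun x => S1628.isReduced_stalk_of_smooth f x
  have : IsReduced X := isReduced_of_isReduced_stalk X
  exact isIntegral_of_irreducibleSpace_of_isReduced X

theorem isBirational_of_isBir {X' X : Scheme.{u}} [IsNoetherian X'] [IsNoetherian X] [IsIntegral X'] [IsIntegral X]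
    {f : X' ⟶ X} (h : IsBir f) : RadPt.IsBirational f := by
  obtain ⟨V, ⟨x, hx⟩, hV⟩ := id h
  have hη : genericPoint X' ∈ f ⁻¹ᵁ V := by
    change f (genericPoint X') ∈ V
    rw [K588.Bir.map_genericPoint h]
    exact ((genericPoint_spec X).mem_open_set_iff V.2).2 ⟨x, trivial, hx⟩
  exact K377.NormSch.isBirational f V (V.2.dense ⟨x, hx⟩) ((f ⁻¹ᵁ V).2.dense ⟨_, hη⟩)

/-- **The row.** -/
theorem row (k : Type u) [Field k] [IsAlgClosed k] [CharZero k] (hI : IitB.{u} k) (hS : AtoB.SatThm.{u} k)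
    (hW : ∀ n, W.{u} k n)
    (X : Scheme.{u}) [X.Over (Spec (CommRingCat.of k))] [IsProper (X ↘ Spec (CommRingCat.of k))]
    [Smooth (X ↘ Spec (CommRingCat.of k))] [IrreducibleSpace X] (n : ℕ) (hn : topologicalKrullDim X = n)
    (H : X.Modules) (hH : CohB1.IsAmple H) (N Ninv : X.Modules) (hN : PicF.IsInvertible N) (hNinv : ClSub.IsInverseOf Ninv N) :
    ((∀ (Y : Scheme.{u}) (i : Y ⟶ X) [IsClosedImmersion i], IsIntegral Y → topologicalKrullDim Y = 1 →
      0 ≤ Pic13.curveDeg k (i ≫ (X ↘ Spec (CommRingCat.of k))) ((Scheme.Modules.pullback i).obj N)) ∧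
      ∃ m : ℕ, ((∀ (V : Scheme.{u}) (i : V ⟶ X) [IsClosedImmersion i], IsIntegral V → topologicalKrullDim V = ((m + 1) : ℕ) →
          FGA.intNum k X n (fun _ : Fin (m + 1) => Ninv) ((Scheme.Modules.pushforward i).obj (Coh.structureModule V)) = 0) ∧ ¬ (∀ (V : Scheme.{u}) (i : V ⟶ X) [IsClosedImmersion i], IsIntegral V → topologicalKrullDim V = ((m) : ℕ) →
          FGA.intNum k X n (fun _ : Fin (m) => Ninv) ((Scheme.Modules.pushforward i).obj (Coh.structureModule V)) = 0)) ∧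
        ((∃ ν a : ℕ, 0 < ν ∧ 0 < a ∧ ∀ μ : ℕ, 1 ≤ μ →
          μ ^ (m) ≤ a * Module.finrank k (Coh.HH X (CohB1.tensorPow N (ν * μ)) 0)) ∧ ¬ (∃ ν a : ℕ, 0 < ν ∧ 0 < a ∧ ∀ μ : ℕ, 1 ≤ μ →
          μ ^ (m + 1) ≤ a * Module.finrank k (Coh.HH X (CohB1.tensorPow N (ν * μ)) 0)))) ↔
    ∃ (Z : Scheme.{u}) (g : Z ⟶ Spec (CommRingCat.of k)) (τ : Z ⟶ X), IsProper g ∧ Smooth g ∧ IrreducibleSpace Z ∧
      (∃ A : Z.Modules, CohB1.IsAmple A) ∧ τ ≫ (X ↘ Spec (CommRingCat.of k)) = g ∧ RadPt.IsBirational τ ∧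
      ∃ (μ₀ : ℕ) (I : Z.IdealSheafData), 0 < μ₀ ∧ PicF.IsInvertible (ClSub.idealMod I) ∧
        ∀ μ : ℕ, 0 < μ → μ₀ ∣ μ → ∃ s : ℕ, 0 < s ∧
          Curv2.IsGloballyGenerated (CohB1.tensorPow
            (CohB1.tensorMod ((Scheme.Modules.pullback τ).obj (CohB1.tensorPow N μ)) (ClSub.idealMod I)) s) := by
  have hXi : IsIntegral X := isIntegral_of_smooth (X ↘ Spec (CommRingCat.of k))
  have hXnoeth := Groth.Agent.Fga.IntAdd.isNoetherian k X
  constructor
  · rintro ⟨hnef, m, ⟨hm1, -⟩, hg, -⟩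
    obtain ⟨e, X', π, H', φ, E, hE, hO, he, hX', hπ, hπb, hH', hφs, hφ, heq⟩ := hI H hH N hN m hg
    let _ : X'.Over (Spec (CommRingCat.of k)) := ⟨π ≫ (X ↘ Spec (CommRingCat.of k))⟩
    have hX'p : IsProper (X' ↘ Spec (CommRingCat.of k)) := by
      change IsProper (π ≫ (X ↘ Spec (CommRingCat.of k)))
      infer_instance
    obtain ⟨Z, g, τ, hgp, hgs, hZi, hA, hτ, hτb, hrest⟩ := AtoB.core hW hS n hn hN hNinv hnef m hm1 π rfl hπb hH' φ hφ hE e he hO heq
    have hZirr : IrreducibleSpace Z := inferInstance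
    have hZn : IsNoetherian Z := by
      let _ : Z.Over (Spec (CommRingCat.of k)) := ⟨g⟩
      have : IsProper (Z ↘ Spec (CommRingCat.of k)) := hgp
      exact Groth.Agent.Fga.IntAdd.isNoetherian k Z
    exact ⟨Z, g, τ, hgp, hgs, hZirr, hA, hτ, isBirational_of_isBir hτb, hrest⟩
  · rintro ⟨Z, g, τ, hgp, hgs, hZirr, ⟨A, hA⟩, hτ, hτb, μ₀, I, hμ₀, hI', hsa⟩
    let _ : Z.Over (Spec (CommRingCat.of k)) := ⟨g⟩
    have : IsProper (Z ↘ Spec (CommRingCat.of k)) := hgp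
    have hZi : IsIntegral Z := isIntegral_of_smooth g
    have hnorm : ∀ x : X, IsIntegrallyClosed (X.presheaf.stalk x) := fun x =>
      (Curves.K323.NormBC.isNormalScheme_of_smooth (X ↘ Spec (CommRingCat.of k)) x).2
    exact BtoA.main k hnorm n hn H hH N Ninv hN hNinv Z A hA τ hτ hτb μ₀ hμ₀ hI' (ClSub.idealModι I)
      (inferInstanceAs (Mono (kernel.ι _))) hsa

end K88.Row
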