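import Groth.Agent.Vanish.K88.AtoB
import Groth.Agent.Vanish.K88.BtoA
import Groth.Agent.Surf.K458.Pos
import Groth.Agent.Surf.K458.Decomp
import Groth.Agent.Surf.K462.DivDeg
import Groth.Agent.Fga.DimCut
import Groth.Agent.S7553

/-!
# The saturation lemma

`ψ : X → Y` with connected fibres, `J` an effective Cartier divisor on `X` such that `O(-J)` has non-negative degree
on the contracted curves: a closed fibre which meets the support of `J` is contained in it.
-/

set_option autoImplicit false
universe u
open CategoryTheory CategoryTheory.Limits AlgebraicGeometry TopologicalSpace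

namespace K88.Sat

theorem dim_nonneg (T : Type*) [TopologicalSpace T] (x : T) : 0 ≤ topologicalKrullDim T := by
  have : Nonempty (IrreducibleCloseds T) := ⟨⟨closure {x}, isIrreducible_singleton.closure, isClosed_closure⟩⟩
  exact Order.krullDim_nonneg

open Groth.Agent Groth.Agent.VarietyA.EulerLES Groth.Agent.Dix.IdealModCartier K458.Decomp

/-- A point specializing to a given point of an effective Cartier divisor `D`, not lying on `D` and not generic. -/
theorem exists_point {X : Scheme.{u}} [IsIntegral X] [IsLocallyNoetherian X] {D : X.IdealSheafData}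
    (hD : BlowUp.IsEffCartierIdeal D) {x : X} (hx : x ∈ (D.support : Set X))
    (hx2 : 1 < ringKrullDim (X.presheaf.stalk x)) :
    ∃ y : X, y ⤳ x ∧ y ≠ genericPoint X ∧ y ∉ (D.support : Set X) := by
  obtain ⟨⟨U, hU⟩, hxU, a, ha, hI⟩ := hD x
  have hU : IsAffineOpen U := hU
  obtain ⟨z, rfl⟩ : ∃ z : Spec Γ(X, U), hU.fromSpec z = x := ⟨hU.primeIdealOf ⟨x, hxU⟩, hU.fromSpec_primeIdealOf _⟩
  have : Nonempty U := ⟨⟨_, hxU⟩⟩
  have : IsDomain Γ(X, U) := inferInstance
  have : IsNoetherianRing Γ(X, U) := IsLocallyNoetherian.component_noetherian ⟨U, hU⟩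
  have hh := Sga5.ProjReg.ringKrullDim_stalk_of_isOpenImmersion hU.fromSpec z
  rw [hh] at hx2
  have hh' : 1 < z.asIdeal.height := by exact_mod_cast hx2
  rw [K458.Pos.fromSpec_mem_support, hI, Ideal.span_singleton_le_iff_mem] at hx
  have hzp : z.asIdeal.IsPrime := z.isPrime
  obtain ⟨q, hq, hqz, hq1, haq⟩ := K458.HeightOne.exists_height_one z.asIdeal hh' a (nonZeroDivisors.ne_zero ha) hx
  let w : Spec Γ(X, U) := ⟨q, hq⟩
  refine ⟨hU.fromSpec w, ?_, ?_, ?_⟩
  · have h1 : w ⤳ z := (PrimeSpectrum.le_iff_specializes w z).1 hqz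
    exact h1.map hU.fromSpec.continuous
  · intro h
    have h1 : ringKrullDim (X.presheaf.stalk (hU.fromSpec w)) = 1 := by
      rw [Sga5.ProjReg.ringKrullDim_stalk_of_isOpenImmersion hU.fromSpec w]
      change ((q.height : ℕ∞) : WithBot ℕ∞) = 1
      rw [hq1]
      rfl
    rw [h] at h1
    have h2 : ringKrullDim (X.presheaf.stalk (genericPoint X)) = 0 := ringKrullDim_eq_zero_of_field X.functionField
    rw [h2] at h1
    exact absurd h1 (by norm_num)
  · rw [K458.Pos.fromSpec_mem_support, hI, Ideal.span_singleton_le_iff_mem]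
    exact haq

/-- A curve through a point of a divisor not contained in the divisor. -/
theorem exists_curve {k : Type u} [Field k] (n : ℕ) : ∀ (X : Scheme.{u}) (p : X ⟶ Spec (CommRingCat.of k)) [IsProper p]
    [IsIntegral X], topologicalKrullDim X ≤ n → ∀ {D : X.IdealSheafData}, BlowUp.IsEffCartierIdeal D →
    ∀ {x : X}, x ∈ (D.support : Set X) → IsClosed ({x} : Set X) →
    ∃ (C : Scheme.{u}) (i : C ⟶ X) (_ : IsClosedImmersion i) (_ : IsIntegral C), topologicalKrullDim C = 1 ∧
      x ∈ Set.range i ∧ i (genericPoint C) ∉ (D.support : Set X) := by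
  induction n with
  | zero =>
    intro X p _ _ hn D hD x hx hxc
    exfalso
    have h1 : genericPoint X ∉ D.support := K870.VertMain.genericPoint_notMem hD
    by_cases hxg : x = genericPoint X
    · exact h1 (hxg ▸ hx)
    · have h2 := K462.DivDeg.dim_closure_lt (X := X) (d := 0) hn hxg
      have h3 : (0 : WithBot ℕ∞) ≤ topologicalKrullDim (closure {x} : Set X) := dim_nonneg _ ⟨x, subset_closure rfl⟩
      exact absurd (h3.trans_lt h2) (by norm_num)
  | succ n ih =>
    intro X p _ _ hn D hD x hx hxc
    let _ : X.Over (Spec (CommRingCat.of k)) := ⟨p⟩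
    have hp : IsProper (X ↘ Spec (CommRingCat.of k)) := inferInstanceAs (IsProper p)
    have hN : IsLocallyNoetherian X := LocallyOfFiniteType.isLocallyNoetherian (X ↘ (Spec (CommRingCat.of k)))
    have hst := Fga.DimCut.ringKrullDim_stalk_eq (k := k) X x hxc
    have hgen : genericPoint X ∉ D.support := K870.VertMain.genericPoint_notMem hD
    by_cases h1 : topologicalKrullDim X ≤ 1
    · refine ⟨X, 𝟙 X, inferInstance, inferInstance, le_antisymm h1 ?_, ⟨x, rfl⟩, hgen⟩
      have hne : x ≠ genericPoint X := fun h => hgen (h ▸ hx)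
      by_contra hlt
      rw [not_le] at hlt
      have h0 : topologicalKrullDim X ≤ (0 : ℕ) := by
        obtain ⟨d, hd⟩ := FlatModel.exists_dim (X ↘ Spec (CommRingCat.of k))
        rw [hd] at hlt ⊢
        have : d < 1 := by exact_mod_cast hlt
        exact_mod_cast (by omega : d ≤ 0)
      have h2 := K462.DivDeg.dim_closure_lt (X := X) (d := 0) h0 hne
      have h3 : (0 : WithBot ℕ∞) ≤ topologicalKrullDim (closure {x} : Set X) := dim_nonneg _ ⟨x, subset_closure rfl⟩
      exact absurd (h3.trans_lt h2) (by norm_num)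
    · rw [not_le, ← hst] at h1
      obtain ⟨y, hyx, hyg, hyD⟩ := exists_point hD hx h1
      have hdim := K462.DivDeg.dim_closure_lt (X := X) (d := n + 1) hn hyg
      have hdim' : topologicalKrullDim (pt y).subscheme ≤ n := by
        rw [K432.NefBasic.topologicalKrullDim_subscheme, support_pt]
        have h0 : (0 : WithBot ℕ∞) ≤ topologicalKrullDim (closure {y} : Set X) := dim_nonneg _ ⟨y, subset_closure rfl⟩
        generalize topologicalKrullDim (closure {y} : Set X) = t at hdim h0
        induction t with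
        | bot => exact bot_le
        | coe t =>
          induction t with
          | top => exact absurd hdim (by simp)
          | coe t =>
            have h5 : t < n + 1 := by exact_mod_cast hdim
            exact_mod_cast (by omega : t ≤ n)
      obtain ⟨x₁, hx₁⟩ : x ∈ Set.range (pt y).subschemeι := by rw [range_pt]; exact hyx.mem_closure
      have hD' : BlowUp.IsEffCartierIdeal (D.comap (pt y).subschemeι) :=
        K660.Kol.isEff_comap_of_generic (pt y).subschemeι hD (by rw [genericPoint_pt]; exact hyD)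
      have hx₁D : x₁ ∈ ((D.comap (pt y).subschemeι).support : Set (pt y).subscheme) := by
        rw [Scheme.IdealSheafData.support_comap]
        change (pt y).subschemeι x₁ ∈ D.support
        rw [hx₁]
        exact hx
      have hx₁c : IsClosed ({x₁} : Set (pt y).subscheme) := by
        have : ({x₁} : Set (pt y).subscheme) = (pt y).subschemeι ⁻¹' {x} := by
          ext w
          constructor
          · rintro rfl; exact hx₁
          · intro hw
            exact (pt y).subschemeι.isClosedEmbedding.injective (hw.trans hx₁.symm)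
        rw [this]
        exact hxc.preimage (pt y).subschemeι.continuous
      obtain ⟨C, i, hi, hC, hCd, ⟨c, hc⟩, hCg⟩ := ih (pt y).subscheme ((pt y).subschemeι ≫ p) hdim' hD' hx₁D hx₁c
      refine ⟨C, i ≫ (pt y).subschemeι, inferInstance, hC, hCd, ⟨c, ?_⟩, ?_⟩
      · rw [Scheme.Hom.comp_apply, hc, hx₁]
      · intro h
        apply hCg
        rw [Scheme.IdealSheafData.support_comap]
        rwa [Scheme.Hom.comp_apply] at h

/-- **The saturation lemma.** -/
theorem sat {k : Type u} [Field k] {X Y : Scheme.{u}} [X.Over (Spec (CommRingCat.of k))]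
    [Y.Over (Spec (CommRingCat.of k))] [IsIntegral X] [IsProper (X ↘ Spec (CommRingCat.of k))] (ψ : X ⟶ Y)
    (hconn : ∀ z : Y, IsClosed ({z} : Set Y) → _root_.IsPreconnected (ψ ⁻¹' {z})) : Zar.Sat k ψ := by
  rintro J hJ hnef z hz ⟨x, hxJ, hxz⟩ x' hx'z
  by_contra hx'J
  have hXn := Groth.Agent.Fga.IntAdd.isNoetherian k X
  have hF : IsClosed (ψ ⁻¹' {z}) := hz.preimage ψ.continuous
  have hJc : IsClosed (J.support : Set X) := J.support.isClosed
  -- a point of the intersection
  obtain ⟨u, huF, huJ, hucl⟩ : (ψ ⁻¹' {z} ∩ ((J.support : Set X) ∩ closure (ψ ⁻¹' {z} \ J.support))).Nonempty := by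
    refine isPreconnected_closed_iff.1 (hconn z hz) _ _ hJc isClosed_closure ?_ ⟨x, hxz, hxJ⟩
      ⟨x', hx'z, subset_closure ⟨hx'z, hx'J⟩⟩
    intro w hw
    by_cases hwJ : w ∈ (J.support : Set X)
    · exact Or.inl hwJ
    · exact Or.inr (subset_closure ⟨hw, hwJ⟩)
  have hcons : Topology.IsConstructible (ψ ⁻¹' {z} \ (J.support : Set X)) := by
    refine Topology.IsConstructible.sdiff (Topology.isConstructible_compl.1 ?_) (Topology.isConstructible_compl.1 ?_)
    · exact IsRetrocompact.isConstructible hF.isOpen_compl (fun _ _ _ => NoetherianSpace.isCompact _)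
    · exact IsRetrocompact.isConstructible hJc.isOpen_compl (fun _ _ _ => NoetherianSpace.isCompact _)
  obtain ⟨y, ⟨hyF, hyJ⟩, hyu⟩ := S7553.exists_specializes hcons hucl
  obtain ⟨x₁, hx₁, hx₁c⟩ := IsClosed.exists_closed_singleton (isClosed_closure (s := ({u} : Set X))) ⟨u, subset_closure rfl⟩
  have hux₁ : u ⤳ x₁ := specializes_iff_mem_closure.2 hx₁
  have hx₁J : x₁ ∈ (J.support : Set X) := hux₁.mem_closed hJc huJ
  -- the component
  have hJ' : BlowUp.IsEffCartierIdeal (J.comap (pt y).subschemeι) :=
    K660.Kol.isEff_comap_of_generic (pt y).subschemeι hJ (by rw [genericPoint_pt]; exact hyJ)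
  obtain ⟨w, hw⟩ : x₁ ∈ Set.range (pt y).subschemeι := by rw [range_pt]; exact (hyu.trans hux₁).mem_closure
  have hwJ : w ∈ ((J.comap (pt y).subschemeι).support : Set (pt y).subscheme) := by
    rw [Scheme.IdealSheafData.support_comap]
    change (pt y).subschemeι w ∈ J.support
    rw [hw]
    exact hx₁J
  have hwc : IsClosed ({w} : Set (pt y).subscheme) := by
    have : ({w} : Set (pt y).subscheme) = (pt y).subschemeι ⁻¹' {x₁} := by
      ext v
      constructor
      · rintro rfl; exact hw
      · intro hv
        exact (pt y).subschemeι.isClosedEmbedding.injective (hv.trans hw.symm)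
    rw [this]
    exact hx₁c.preimage (pt y).subschemeι.continuous
  obtain ⟨d, hd⟩ := FlatModel.exists_dim ((pt y).subschemeι ≫ (X ↘ Spec (CommRingCat.of k)))
  obtain ⟨C, i, hi, hC, hCd, ⟨c, hc⟩, hCg⟩ := exists_curve d (pt y).subscheme
    ((pt y).subschemeι ≫ (X ↘ Spec (CommRingCat.of k))) hd.le hJ' hwJ hwc
  -- the curve in `X`
  let j : C ⟶ X := i ≫ (pt y).subschemeι
  have hrange : ∀ v : C, ψ (j v) = z := by
    intro v
    have h1 : j v ∈ closure ({y} : Set X) := by
      rw [← range_pt]
      exact ⟨i v, (Scheme.Hom.comp_apply _ _ _).symm⟩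
    exact hF.closure_subset_iff.2 (Set.singleton_subset_iff.2 hyF) h1
  have h0 := hnef C j hC hCd ⟨z, by
    rintro _ ⟨v, rfl⟩
    rw [Scheme.Hom.comp_apply]
    exact hrange v⟩
  let _ : C.Over (Spec (CommRingCat.of k)) := ⟨j ≫ (X ↘ Spec (CommRingCat.of k))⟩
  have hCp : IsProper (C ↘ Spec (CommRingCat.of k)) := by
    change IsProper (j ≫ (X ↘ Spec (CommRingCat.of k)))
    infer_instance
  have hDC : BlowUp.IsEffCartierIdeal (J.comap j) := K660.Kol.isEff_comap_of_generic j hJ (by
    intro h
    apply hCg
    rw [Scheme.IdealSheafData.support_comap]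
    rw [Scheme.Hom.comp_apply] at h
    exact h)
  have hne : J.comap j ≠ ⊤ := by
    intro h
    have h1 : c ∈ ((J.comap j).support : Set C) := by
      rw [Scheme.IdealSheafData.support_comap]
      change j c ∈ J.support
      have : j c = x₁ := by
        change (i ≫ (pt y).subschemeι) c = x₁
        rw [Scheme.Hom.comp_apply, hc, hw]
      rw [this]
      exact hx₁J
    rw [h, Scheme.IdealSheafData.support_top] at h1
    exact h1
  obtain ⟨e⟩ := pullback_idealMod j hJ hDC
  have hlt := K458.Pos.euler_idealMod_lt k C hCd.le hDC hne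
  rw [BtoA.curveDeg_eq_dg (j ≫ (X ↘ Spec (CommRingCat.of k))) hCd] at h0
  have h2 : K432.CurveDeg.dg (j ≫ (X ↘ Spec (CommRingCat.of k))) ((Scheme.Modules.pullback j).obj (ClSub.idealMod J)) =
      Curv2.euler k C (ClSub.idealMod (J.comap j)) - Curv2.euler k C (Coh.structureModule C) := by
    rw [K432.CurveDeg.dg_congr _ e]
    change Curv2.deg k C (ClSub.idealMod (J.comap j)) 1 = _
    unfold Curv2.deg
    simp
  rw [h2] at h0
  linarith

end K88.Sat
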