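import Groth.Agent.Vanish.K88.Zar
import Groth.Agent.Vanish.K909.NefTens
import Groth.Agent.Vanish.K660.KolUp
import Groth.Agent.Variety.K427.FibCurve

/-!
# S16905, (a) ⟹ (b): Zariski's lemma for a relatively nef vertical divisor
-/

set_option autoImplicit false
universe u
open CategoryTheory CategoryTheory.Limits AlgebraicGeometry TopologicalSpace

namespace K88.Zar

open Groth.Agent Groth.Agent.Fga.PicMon Groth.Agent.Grpsch.PicGrp Groth.Agent.Fga.JacFactor
open K909.Kleiman Groth.Agent.Divis.EffCartier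

variable {k : Type u} [Field k]

/-- The property of the saturation lemma (SAT): an effective divisor `J` with `O(-J)` nef on contracted curves has
saturated support. -/
def Sat (k : Type u) [Field k] {X Y : Scheme.{u}} [X.Over (Spec (CommRingCat.of k))] (ψ : X ⟶ Y) : Prop :=
  ∀ J : X.IdealSheafData, BlowUp.IsEffCartierIdeal J →
    (∀ (C : Scheme.{u}) (i : C ⟶ X) [IsClosedImmersion i], IsIntegral C → topologicalKrullDim C = 1 →
      (∃ y : Y, Set.range (i ≫ ψ) ⊆ {y}) →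
      0 ≤ Pic13.curveDeg k (i ≫ (X ↘ Spec (CommRingCat.of k))) ((Scheme.Modules.pullback i).obj (ClSub.idealMod J))) →
    ∀ z : Y, IsClosed ({z} : Set Y) → (∃ x ∈ J.support, ψ x = z) → ∀ x : X, ψ x = z → x ∈ J.support

/-- Pull-backs of classes from `Y` have degree zero on contracted curves. -/
theorem dOn_pull_eq_zero {X Y : Scheme.{u}} [X.Over (Spec (CommRingCat.of k))] [Y.Over (Spec (CommRingCat.of k))]
    [IsProper (X ↘ Spec (CommRingCat.of k))] [IsProper (Y ↘ Spec (CommRingCat.of k))] (ψ : X ⟶ Y)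
    (hψ : ψ ≫ (Y ↘ Spec (CommRingCat.of k)) = X ↘ Spec (CommRingCat.of k)) {C : Scheme.{u}} (i : C ⟶ X)
    [IsClosedImmersion i] (hC : IsIntegral C) (hdim : topologicalKrullDim C = 1)
    (hc : ∃ y : Y, Set.range (i ≫ ψ) ⊆ {y}) (c : Pic Y) : dOn k X i (pull ψ c) = 0 := by
  obtain ⟨y, hy⟩ := hc
  have hψp : IsProper ψ := by
    have : IsProper (ψ ≫ (Y ↘ Spec (CommRingCat.of k))) := by rw [hψ]; infer_instance
    exact IsProper.of_comp ψ (Y ↘ Spec (CommRingCat.of k))
  have hCj : JacobsonSpace C := LocallyOfFiniteType.jacobsonSpace (i ≫ (X ↘ Spec (CommRingCat.of k)))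
  obtain ⟨c₀, -, hc₀⟩ := nonempty_inter_closedPoints (X := C) (Z := Set.univ) Set.univ_nonempty
    isClosed_univ.isLocallyClosed
  have hyc : IsClosed ({y} : Set Y) := by
    have h1 : (i ≫ ψ) c₀ = y := hy ⟨c₀, rfl⟩
    have h2 : IsClosed ((i ≫ ψ) '' {c₀}) := (i ≫ ψ).isClosedMap _ hc₀
    rwa [Set.image_singleton, h1] at h2
  have h1 : pull i (pull ψ c) = 1 := by
    rw [← pull_comp]
    exact K427.FibCurve.pull_eq_one_of_range (i ≫ ψ) y hyc hy c
  have h2 := dOn_mul k X i hdim (pull ψ c) (pull ψ c)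
  have h3 : dOn k X i (pull ψ c * pull ψ c) = dOn k X i (pull ψ c) := by
    unfold dOn
    rw [map_mul, h1, mul_one]
  rw [h3] at h2
  linarith

/-- **(ZAR)** -/
theorem main {X Y : Scheme.{u}} [X.Over (Spec (CommRingCat.of k))]
    [Y.Over (Spec (CommRingCat.of k))] [IsIntegral X] [IsIntegral Y]
    [IsProper (X ↘ Spec (CommRingCat.of k))] [IsProper (Y ↘ Spec (CommRingCat.of k))]
    (hX : ∀ x : X, IsIntegrallyClosed (X.presheaf.stalk x))
    (hY : ∀ y : Y, IsRegularLocalRing (Y.presheaf.stalk y)) (ψ : X ⟶ Y)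
    (hψ : ψ ≫ (Y ↘ Spec (CommRingCat.of k)) = X ↘ Spec (CommRingCat.of k))
    (hη : ψ (genericPoint X) = genericPoint Y)
    (hcod : ∀ x : X, ringKrullDim (X.presheaf.stalk x) = 1 → ringKrullDim (Y.presheaf.stalk (ψ x)) ≤ 1)
    (hsat : Sat k ψ) (E : X.IdealSheafData) (hE : BlowUp.IsEffCartierIdeal E)
    (hEY : genericPoint Y ∉ ψ '' (E.support : Set X))
    (hdeg : ∀ (C : Scheme.{u}) (i : C ⟶ X) [IsClosedImmersion i], IsIntegral C → topologicalKrullDim C = 1 →
      (∃ y : Y, Set.range (i ≫ ψ) ⊆ {y}) → dOn k X i (dcl E hE) ≤ 0) :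
    ∃ (q : ℕ) (B : Y.IdealSheafData), 0 < q ∧ BlowUp.IsEffCartierIdeal B ∧ B.comap ψ = E ^ q := by
  have hXn : IsLocallyNoetherian X := LocallyOfFiniteType.isLocallyNoetherian (X ↘ Spec (CommRingCat.of k))
  have hYn : IsLocallyNoetherian Y := LocallyOfFiniteType.isLocallyNoetherian (Y ↘ Spec (CommRingCat.of k))
  have hXc : CompactSpace X := QuasiCompact.compactSpace_of_compactSpace (X ↘ Spec (CommRingCat.of k))
  have hXN : IsNoetherian X := {}
  have hXj : JacobsonSpace X := LocallyOfFiniteType.jacobsonSpace (X ↘ Spec (CommRingCat.of k))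
  have hψp : IsProper ψ := by
    have : IsProper (ψ ≫ (Y ↘ Spec (CommRingCat.of k))) := by rw [hψ]; infer_instance
    exact IsProper.of_comp ψ (Y ↘ Spec (CommRingCat.of k))
  obtain ⟨q, B, J, hq, hB, hJ, hBJ, H⟩ := core hX hY ψ ψ.isClosedMap hη (fun x hx => by
    have h1 := hcod x (by rw [ringKrullDim_stalk_eq_coheight, hx]; rfl)
    rw [ringKrullDim_stalk_eq_coheight] at h1
    exact_mod_cast h1) E hE hEY
  refine ⟨q, B, hq, hB, ?_⟩
  have hEq : BlowUp.IsEffCartierIdeal (E ^ q) := isEff_pow hE q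
  have hBX : BlowUp.IsEffCartierIdeal (B.comap ψ) := by rw [hBJ]; exact isEff_mul hEq hJ
  have hJt : J = ⊤ := by
    refine H (hsat J hJ fun C i _ hC hdim hc => ?_)
    rw [curveDeg_eq_dOn k X i hdim (Dix.IdealModCartier.isInvertible_idealMod hJ)]
    change 0 ≤ dOn k X i (dcl J hJ)
    have h1 : pull ψ (dcl B hB) = dcl E hE ^ q * dcl J hJ := by
      rw [K660.KolUp.pull_dcl ψ hB hBX, ← K660.KolUp.dcl_pow hE q hEq, ← dcl_mul hEq hJ]
      exact dcl_congr hBJ hBX
    have h2 := dOn_pull_eq_zero ψ hψ i hC hdim hc (dcl B hB)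
    rw [h1, dOn_mul k X i hdim, dOn_pow k X i hdim] at h2
    have h3 := hdeg C i hC hdim hc
    nlinarith [h2, h3, Int.natCast_nonneg q]
  rw [hBJ, hJt]
  exact mul_one _

end K88.Zar
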