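import Groth.Agent.Vanish.K88.PullH0
import Groth.Agent.PosLin.K931.NefMain
import Groth.Agent.PosLin.K931.NakC
import Groth.Agent.Variety.K432.NefSurj
import Groth.Agent.Vanish.K910.NefGrowth

/-!
# Lifting subvarieties with non-zero intersection number along a surjective morphism
-/

set_option autoImplicit false
universe u
open CategoryTheory CategoryTheory.Limits AlgebraicGeometry TopologicalSpace

namespace K88.Lift

open Groth.Agent Groth.Agent.Fga Groth.Agent.Fga.PicMon K910.HZ K909.InterML K909.Kleiman Groth.Agent.Grpsch.PicGrp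
open K432.CurveLift Groth.Agent.CycB K931.BigGrowth

section lift

variable {k : Type u} [Field k] {X Z : Scheme.{u}} (p : X ⟶ Spec (CommRingCat.of k)) [IsProper p]

include p in
/-- Lifting of an integral closed subscheme, with the same dimension. -/
theorem exists_lift (τ : Z ⟶ X) [IsProper τ] [Surjective τ] {V : Scheme.{u}} (i : V ⟶ X) [IsClosedImmersion i]
    [IsIntegral V] :
    ∃ (V' : Scheme.{u}) (j : V' ⟶ Z) (h : V' ⟶ V), IsClosedImmersion j ∧ IsIntegral V' ∧ IsDominant h ∧
      h ≫ i = j ≫ τ ∧ topologicalKrullDim V' = topologicalKrullDim V := by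
  obtain ⟨y, hy, hy'⟩ := exists_point_lift (i ≫ p) (pullback.snd τ i) (genericPoint V)
    ((pullback.snd τ i).surjective _)
  have hdim : topologicalKrullDim (ptIdeal y).subscheme = topologicalKrullDim V := by
    rw [K432.NefBasic.topologicalKrullDim_subscheme, support_ptIdeal, hy', genericPoint_closure]
    exact IsHomeomorph.topologicalKrullDim_eq _ (Homeomorph.Set.univ V).isHomeomorph
  have hcl : IsClosedImmersion (pullback.fst τ i) := inferInstance
  refine ⟨(ptIdeal y).subscheme, (ptIdeal y).subschemeι ≫ pullback.fst τ i,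
    (ptIdeal y).subschemeι ≫ pullback.snd τ i, inferInstance, inferInstance, ⟨?_⟩, ?_, hdim⟩
  · have hmem : genericPoint V ∈ Set.range ((ptIdeal y).subschemeι ≫ pullback.snd τ i) := by
      obtain ⟨z, hz⟩ : y ∈ Set.range (ptIdeal y).subschemeι := by
        rw [range_ptIdeal]; exact subset_closure rfl
      exact ⟨z, by rw [Scheme.Hom.comp_apply, hz, hy]⟩
    intro z
    have h1 : closure {genericPoint V} ⊆ closure (Set.range ((ptIdeal y).subschemeι ≫ pullback.snd τ i)) :=
      closure_mono (Set.singleton_subset_iff.mpr hmem)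
    rw [genericPoint_closure] at h1
    exact h1 trivial
  · rw [Category.assoc, Category.assoc, pullback.condition]

end lift

theorem inter_cutoff (k : Type u) [Field k] (X : Scheme.{u}) [X.Over (Spec (CommRingCat.of k))]
    [IsProper (X ↘ Spec (CommRingCat.of k))] (d d' : ℕ) (hd : topologicalKrullDim X ≤ d)
    (hd' : topologicalKrullDim X ≤ d') (F : X.Modules) {r : ℕ} (c : Fin r → Pic X) :
    inter k X d F c = inter k X d' F c := by
  obtain ⟨M, hM, h⟩ := Pic13.H970.IntForm.exists_rep X (fun i => (c i)⁻¹)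
  unfold inter
  rw [h, ← Pic13.H970.IntForm.intNum_eq k X d _ M hM, ← Pic13.H970.IntForm.intNum_eq k X d' _ M hM,
    Pic13.H956.Numbers.intNum_cutoff k X d d' hd hd']

theorem growth_mono (k : Type u) [Field k] {V V' : Scheme.{u}} [V.Over (Spec (CommRingCat.of k))]
    [V'.Over (Spec (CommRingCat.of k))] [IsProper (V ↘ Spec (CommRingCat.of k))]
    [IsProper (V' ↘ Spec (CommRingCat.of k))] (h : V' ⟶ V)
    (hh : h ≫ (V ↘ Spec (CommRingCat.of k)) = V' ↘ Spec (CommRingCat.of k)) [IsReduced V] [IsDominant h]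
    {L : V.Modules} (hL : PicF.IsInvertible L) {n : ℕ} (hg : Growth k L n) :
    Growth k ((Scheme.Modules.pullback h).obj L) n := by
  rw [growth_iff] at hg ⊢
  obtain ⟨C, hC, m₁, hm⟩ := hg
  refine ⟨C, hC, m₁, fun m hle => (hm m hle).trans ?_⟩
  rw [← K910.NefGrowth.mc_pull_pow h hL, ← mc_tensorPow]
  exact_mod_cast PullH0.HZ_le_pull h hh (Fdesc.LocGen.isInvertible_tensorPow hL m)

section main

variable {k : Type u} [Field k] {X Z : Scheme.{u}} [X.Over (Spec (CommRingCat.of k))]
  [Z.Over (Spec (CommRingCat.of k))] [IsProper (X ↘ Spec (CommRingCat.of k))]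
  [IsProper (Z ↘ Spec (CommRingCat.of k))] (τ : Z ⟶ X)
  (hτ : τ ≫ (X ↘ Spec (CommRingCat.of k)) = Z ↘ Spec (CommRingCat.of k)) [Surjective τ]

include hτ in
theorem inter_ne_zero {A : Z.Modules} (hA : CohB1.IsAmple A) {H : X.Modules} (hH : CohB1.IsAmple H) {L : X.Modules}
    (hL : PicF.IsInvertible L) (hnef : Nef k X L) (hnef' : Nef k Z ((Scheme.Modules.pullback τ).obj L))
    {d e : ℕ} (hd : topologicalKrullDim X ≤ d) (he : topologicalKrullDim Z ≤ e) {m : ℕ} {V : Scheme.{u}} (i : V ⟶ X)
    [IsClosedImmersion i] [IsIntegral V] (hV : topologicalKrullDim V = (m : ℕ))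
    (hne : inter k X d (OZ i) (fun _ : Fin m => mk L hL) ≠ 0) :
    ∃ (V' : Scheme.{u}) (j : V' ⟶ Z), IsClosedImmersion j ∧ IsIntegral V' ∧ topologicalKrullDim V' = (m : ℕ) ∧
      inter k Z e (OZ j) (fun _ : Fin m => pull τ (mk L hL)) ≠ 0 := by
  have hp : IsProper τ := by
    have : IsProper (τ ≫ (X ↘ Spec (CommRingCat.of k))) := by rw [hτ]; infer_instance
    exact IsProper.of_comp τ (X ↘ Spec (CommRingCat.of k))
  obtain ⟨V', j, h, hj, hV', hdom, hcomm, hdim⟩ := exists_lift (X ↘ Spec (CommRingCat.of k)) τ i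
  refine ⟨V', j, hj, hV', hdim.trans hV, ?_⟩
  letI : V.Over (Spec (CommRingCat.of k)) := ⟨i ≫ (X ↘ Spec (CommRingCat.of k))⟩
  have hi : i ≫ (X ↘ Spec (CommRingCat.of k)) = V ↘ Spec (CommRingCat.of k) := rfl
  haveI : IsProper (V ↘ Spec (CommRingCat.of k)) := by rw [← hi]; infer_instance
  letI : V'.Over (Spec (CommRingCat.of k)) := ⟨j ≫ (Z ↘ Spec (CommRingCat.of k))⟩
  have hj' : j ≫ (Z ↘ Spec (CommRingCat.of k)) = V' ↘ Spec (CommRingCat.of k) := rfl
  haveI : IsProper (V' ↘ Spec (CommRingCat.of k)) := by rw [← hj']; infer_instance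
  have hh : h ≫ (V ↘ Spec (CommRingCat.of k)) = V' ↘ Spec (CommRingCat.of k) := by
    rw [← hi, ← Category.assoc, hcomm, Category.assoc, hτ, hj']
  have hdV : topologicalKrullDim V ≤ d := (dim_le_of_closed i).trans hd
  have hdV' : topologicalKrullDim V' ≤ e := (dim_le_of_closed j).trans he
  have hLV := Fdesc.LocGen.isInvertible_pullback i hL
  have hLZ := Fdesc.LocGen.isInvertible_pullback τ hL
  have hLV' := Fdesc.LocGen.isInvertible_pullback j hLZ
  have hLV'' := Fdesc.LocGen.isInvertible_pullback h hLV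
  -- on `V`
  have e1 : inter k X d (OZ i) (fun _ : Fin m => mk L hL) =
      inter k V m (Coh.structureModule V) (fun _ : Fin m => mk _ hLV) := by
    rw [OZ, inter_push k i hi, inter_cutoff k V d m hdV hV.le]
    simp only [pull_mk]
  rw [e1] at hne
  have := IntAdd.isNoetherian k V
  have := IntAdd.isNoetherian k V'
  have hnV : Nef k V ((Scheme.Modules.pullback i).obj L) := Nef.pullback k X hnef i hi
  have h0 : 0 ≤ inter k V m (Coh.structureModule V) (fun _ : Fin m => mk _ hLV) :=
    nonneg_mixed (K931.NakC.nak k) hV.le hnV hLV (CohqB.AmpCocycle.isAmple_pullback i hH) _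
      (CurvesC.UnitCoh.isCoh_unit V) (by
        rw [Pic13.H970.Assembly.support_unit, IsHomeomorph.topologicalKrullDim_eq _ (Homeomorph.Set.univ V).isHomeomorph,
          hV]) _ (fun _ => Or.inl rfl)
  have hpos := lt_of_le_of_ne h0 (Ne.symm hne)
  have hgV := (K931.NefMain.growth_iff_pos (K931.NakC.nak k) (CohqB.AmpCocycle.isAmple_pullback i hH) hLV hnV
    (n := m) hV).mpr hpos
  have hgV' := growth_mono k h hh hLV hgV
  -- on `V'`
  have hnV' : Nef k V' ((Scheme.Modules.pullback j).obj ((Scheme.Modules.pullback τ).obj L)) :=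
    Nef.pullback k Z hnef' j hj'
  have ei : (Scheme.Modules.pullback h).obj ((Scheme.Modules.pullback i).obj L) ≅
      (Scheme.Modules.pullback j).obj ((Scheme.Modules.pullback τ).obj L) :=
    (Scheme.Modules.pullbackComp h i).app L ≪≫ (Scheme.Modules.pullbackCongr hcomm).app L ≪≫
      ((Scheme.Modules.pullbackComp j τ).app L).symm
  have hgV'' : Growth k ((Scheme.Modules.pullback j).obj ((Scheme.Modules.pullback τ).obj L)) m := by
    rw [growth_iff] at hgV' ⊢
    rw [← mc_eq ei]
    exact hgV'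
  have hpos' := (K931.NefMain.growth_iff_pos (K931.NakC.nak k) (CohqB.AmpCocycle.isAmple_pullback j hA) hLV' hnV'
    (n := m) (hdim.trans hV)).mp hgV''
  have e2 : inter k Z e (OZ j) (fun _ : Fin m => pull τ (mk L hL)) =
      inter k V' m (Coh.structureModule V') (fun _ : Fin m => mk _ hLV') := by
    rw [OZ, inter_push k j hj', inter_cutoff k V' e m hdV' (hdim.trans hV).le]
    simp only [pull_mk]
  rw [e2]
  exact hpos'.ne'

end main

end K88.Lift
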