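import Groth.Agent.Vanish.K88.PolArg
import Groth.Agent.Vanish.K88.Lift
import Groth.Agent.Vanish.K660.Semi
import Groth.Agent.Vanish.K910.NoGrowth
import Groth.Agent.Vanish.K909.NefTens

/-!
# Growth of sections from semi-ampleness of `L^μ(-C)` for all `μ`
-/

set_option autoImplicit false
universe u
open CategoryTheory CategoryTheory.Limits AlgebraicGeometry TopologicalSpace

namespace K88.GrowthUp

open Groth.Agent Groth.Agent.Fga Groth.Agent.Fga.PicMon K910.HZ K910.IL K909.InterML K909.Kleiman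
  Groth.Agent.Grpsch.PicGrp Groth.Agent.Pic13.H970.IntForm K931.Eff K660.Semi Groth.Agent.Fdesc.LocGen

variable (k : Type u) [Field k] {X : Scheme.{u}} [X.Over (Spec (CommRingCat.of k))]

/-- `h⁰` of a class. -/
noncomputable def hz (c : Pic X) : ℕ := HZ k X (toMC X c)

theorem hz_mk {L : X.Modules} (hL : PicF.IsInvertible L) : hz k (mk L hL) = HZ k X (mc L) := rfl

theorem hz_mk_pow {L : X.Modules} (hL : PicF.IsInvertible L) (n : ℕ) : hz k (mk L hL ^ n) = HZ k X (mc L ^ n) := by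
  unfold hz; rw [map_pow]; rfl

variable [IsProper (X ↘ Spec (CommRingCat.of k))]

theorem hz_le_of_eff [IsIntegral X] {e : Pic X} (he : Eff e) (c : Pic X) : hz k c ≤ hz k (c * e) := by
  obtain ⟨N, hN, rfl, s, hs⟩ := he
  induction c using Groth.Agent.Grpsch.PicGrp.ind with | _ L hL => ?_
  have h1 := HZ_le_mulS k (c := mc L) hN (HodgeSec.isCoh_of_isInvertible isInvertible_structureModule) s
    (HodgeSec.mono_mulS hN isInvertible_structureModule s hs) (inv_mc hL)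
  rw [mc_one, mul_one, mul_one] at h1
  unfold hz
  rw [map_mul]
  exact h1

theorem eff_inv_of_mono [IsIntegral X] {E : X.Modules} (hE : PicF.IsInvertible E) (ι : E ⟶ Coh.structureModule X)
    (hι : Mono ι) : Eff (mk E hE)⁻¹ := by
  have h := (exists_mono_iff hE isInvertible_structureModule).mp ⟨ι, hι⟩
  have e : mk (Coh.structureModule X) isInvertible_structureModule / mk E hE = (mk E hE)⁻¹ := by
    rw [← one_def, one_div]
  rwa [e] at h

theorem growth_of_sa [IsIntegral X] {ℓ ε : Pic X} (hε : Eff ε⁻¹) {μ₀ : ℕ} (hμ₀ : 0 < μ₀)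
    (hsa : ∀ μ : ℕ, 0 < μ → μ₀ ∣ μ → SA (ℓ ^ μ * ε)) {d : ℕ} (hd : topologicalKrullDim X ≤ d)
    (m : ℕ) {V : Scheme.{u}} (j : V ⟶ X) [IsClosedImmersion j] [IsIntegral V] (hV : topologicalKrullDim V = (m : ℕ))
    (hne : inter k X d (OZ j) (fun _ : Fin m => ℓ) ≠ 0) :
    ∃ ν a : ℕ, 0 < ν ∧ 0 < a ∧ ∀ μ : ℕ, 1 ≤ μ → μ ^ m ≤ a * hz k (ℓ ^ (ν * μ)) := by
  have hNoeth := IntAdd.isNoetherian k X
  have hF : Coh.IsCoh (OZ j) := isCoh_OZ j
  have hr : topologicalKrullDim (CohB1.support (OZ j)) ≤ m := by rw [dim_OZ, hV]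
  obtain ⟨t, ht, hdvd, hne'⟩ := PolArg.exists_ne_zero (ml k X d hd (OZ j) hF hr) (Additive.ofMul ℓ) (Additive.ofMul ε)
    (by rw [ml_apply]; exact hne) hμ₀
  rw [ml_apply] at hne'
  have e0 : (fun _ : Fin m => (t • Additive.ofMul ℓ + 1 • Additive.ofMul ε : Additive (Pic X)).toMul) =
      fun _ => ℓ ^ t * ε := by
    funext _
    rw [toMul_combo, pow_one]
  rw [e0] at hne'
  obtain ⟨s, hs, hgg⟩ := hsa t ht hdvd
  obtain ⟨M, hM, hMe⟩ := exists_mk (ℓ ^ t * ε)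
  rw [hMe] at hne' hgg
  rw [← mk_tensorPow, ggc_mk] at hgg
  have hM' := isInvertible_dual hM
  have hMM' : mc (dual M) * mc M = 1 := by
    have := congrArg (toMC X) (show mk (dual M) hM' * mk M hM = 1 by rw [← inv_mk hM, inv_mul_cancel])
    rwa [map_mul, map_one] at this
  obtain ⟨ν, a, hν, ha, hg⟩ := K910.NoGrowth.growth_of_semiample k hd hM hM' hMM' hs hgg m V j hV (by
    rw [IL_replicate]
    have h1 := inter_mk k X d (OZ j) (fun _ : Fin m => M) (fun _ => dual M) (fun _ => hM) (fun _ => hM') (fun _ =>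
      (mc_eq_iff _ _).1 (by rw [mc_tensor, mul_comm, hMM', mc_one]))
    exact fun h => hne' (h1.trans h))
  refine ⟨t * ν, a, Nat.mul_pos ht hν, ha, fun μ hμ => (hg μ hμ).trans (Nat.mul_le_mul_left a ?_)⟩
  rw [← hz_mk_pow k hM, ← hMe]
  refine (hz_le_of_eff k (hε.pow (ν * μ)) _).trans (le_of_eq ?_)
  congr 1
  rw [mul_pow, inv_pow, mul_assoc, mul_inv_cancel, mul_one, ← pow_mul, mul_assoc]

/-- A class all of whose twisted powers `ℓ^μ ε` are semi-ample is nef. -/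
theorem nef_of_sa [CompactSpace X] [X.IsSeparated] {ℓ ε : Pic X} {μ₀ : ℕ} (hμ₀ : 0 < μ₀)
    (hsa : ∀ μ : ℕ, 0 < μ → μ₀ ∣ μ → SA (ℓ ^ μ * ε)) {A : X.Modules} (hA : CohB1.IsAmple A) : NefC k X ℓ := by
  have h1 : ∀ μ : ℕ, 0 < μ → μ₀ ∣ μ → NefC k X (ℓ ^ μ * ε) := by
    intro μ hμ hd
    obtain ⟨M, hM, hMe⟩ := exists_mk (ℓ ^ μ * ε)
    have h2 := hsa μ hμ hd
    rw [hMe] at h2 ⊢
    rw [← nef_iff_nefC k X hM]
    refine nef_of_isAmple k X M A hM hA fun ν hν => ?_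
    have h3 : Amp (mk A hA.1 * (mk M hM) ^ ν) := K660.Semi.Amp.mul_sa ((amp_mk hA.1).mpr hA) (h2.pow ν)
    rw [mul_comm, ← mk_tensorPow, mk_mul_mk, amp_mk] at h3
    exact h3
  intro Y i _ hY hdim
  by_contra hneg
  push Not at hneg
  have h2 : ∀ t : ℕ, 0 < t → 0 ≤ ((μ₀ * t : ℕ) : ℤ) * dOn k X i ℓ + dOn k X i ε := by
    intro t ht
    have := h1 (μ₀ * t) (Nat.mul_pos hμ₀ ht) (Dvd.intro t rfl) Y i hY hdim
    rwa [dOn_mul k X i hdim, dOn_pow k X i hdim] at this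
  have h3 := h2 ((dOn k X i ε).toNat + 1) (Nat.succ_pos _)
  have h4 : dOn k X i ε ≤ ((dOn k X i ε).toNat : ℤ) := Int.self_le_toNat _
  have h5 : (1 : ℤ) ≤ μ₀ := by exact_mod_cast hμ₀
  push_cast at h3
  set N : ℤ := ((dOn k X i ε).toNat : ℤ) with hN
  have hN0 : 0 ≤ N := by rw [hN]; positivity
  have h6 : (μ₀ : ℤ) * (N + 1) * dOn k X i ℓ ≤ (μ₀ : ℤ) * (N + 1) * (-1) :=
    mul_le_mul_of_nonneg_left (by omega) (by positivity)
  have h7 : N + 1 ≤ (μ₀ : ℤ) * (N + 1) := le_mul_of_one_le_left (by positivity) h5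
  linarith

end K88.GrowthUp
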