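import Groth.Agent.Resolve.K588.Bir
import Groth.Agent.Grpsch.GrowthFF
import Groth.Agent.S2422

/-!
# S16905, (a) ⟹ (b): function fields algebraically closed in each other

`AC f h`: the function field of `Y` is algebraically closed in that of `X`.
-/

set_option autoImplicit false
universe u
open CategoryTheory CategoryTheory.Limits AlgebraicGeometry TopologicalSpace

namespace K88.AlgCl

open K660 K84.Iface

variable {X Y : Scheme.{u}} [IsIntegral X] [IsIntegral Y]

/-- `K(Y)` is algebraically closed in `K(X)`. -/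
def AC (f : X ⟶ Y) (h : f (genericPoint X) = genericPoint Y) : Prop :=
  ∀ x : X.functionField, (∃ p : Polynomial Y.functionField, p ≠ 0 ∧ Polynomial.eval₂ (FF.ff f h) x p = 0) →
    x ∈ Set.range (FF.ff f h)

/-- `f_* O = O` and `X` normal imply `AC`. -/
theorem ac_of_isIso_app (hX : ∀ x : X, IsIntegrallyClosed (X.presheaf.stalk x)) (f : X ⟶ Y)
    (h : f (genericPoint X) = genericPoint Y) (hf : ∀ V : Y.Opens, IsIso (f.app V)) : AC f h := by
  intro x ⟨p, hp0, hp⟩
  obtain ⟨_, ⟨V, hV, rfl⟩, hηV, -⟩ :=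
    Y.isBasis_affineOpens.exists_subset_of_mem_open (Set.mem_univ (genericPoint Y)) isOpen_univ
  have hηV : genericPoint Y ∈ V := hηV
  have hηW : genericPoint X ∈ f ⁻¹ᵁ V := by
    change f (genericPoint X) ∈ V
    rw [h]; exact hηV
  have hNV : Nonempty V := ⟨⟨_, hηV⟩⟩
  have hfr : IsFractionRing Γ(Y, V) Y.functionField := functionField_isFractionRing_of_isAffineOpen Y _ hV
  let _ : Algebra Y.functionField X.functionField := (FF.ff f h).toAlgebra
  let _ : Algebra Γ(Y, V) X.functionField := ((FF.ff f h).comp (algebraMap Γ(Y, V) Y.functionField)).toAlgebra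
  have hst : IsScalarTower Γ(Y, V) Y.functionField X.functionField := .of_algebraMap_eq fun _ => rfl
  have halg : IsAlgebraic Y.functionField x := ⟨p, hp0, hp⟩
  have halg' : IsAlgebraic Γ(Y, V) x := (IsFractionRing.isAlgebraic_iff Γ(Y, V) Y.functionField X.functionField).2 halg
  obtain ⟨r, hr0, hr⟩ := halg'.exists_integral_multiple
  -- `r • x` is regular on `f⁻¹ V`
  have hreg : ∀ z ∈ f ⁻¹ᵁ V, r • x ∈ Groth.Agent.Grpsch.GrowthFF.O X z := by
    intro z hz
    have := hX z
    obtain ⟨q, hq, hq'⟩ := hr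
    have h1 : ((algebraMap (X.presheaf.stalk z) X.functionField).comp ((f.stalkMap z).hom.comp
        (Y.presheaf.germ V (f z) hz).hom)) = algebraMap Γ(Y, V) X.functionField := by
      ext a
      change algebraMap (X.presheaf.stalk z) X.functionField ((f.stalkMap z).hom (Y.presheaf.germ V (f z) hz a)) =
        FF.ff f h (Y.presheaf.germ V (genericPoint Y) hηV a)
      rw [← FF.ff_algebraMap f h z]
      congr 1
      exact TopCat.Presheaf.germ_stalkSpecializes_apply Y.presheaf hz _ a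
    have h2 : IsIntegral (X.presheaf.stalk z) (r • x) := by
      refine ⟨q.map ((f.stalkMap z).hom.comp (Y.presheaf.germ V (f z) hz).hom), hq.map _, ?_⟩
      rw [Polynomial.eval₂_map, h1]
      exact hq'
    obtain ⟨a, ha⟩ := IsIntegrallyClosed.isIntegral_iff.1 h2
    exact ⟨a, ha⟩
  obtain ⟨s, hs⟩ := Groth.Agent.Grpsch.GrowthFF.exists_section (f ⁻¹ᵁ V) hηW (r • x) hreg
  have hfV := hf V
  obtain ⟨t, ht⟩ := (ConcreteCategory.bijective_of_isIso (f.app V)).2 s
  refine ⟨Y.presheaf.germ V (genericPoint Y) hηV t / Y.presheaf.germ V (genericPoint Y) hηV r, ?_⟩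
  have h1 := FF.ff_germ f h V hηV hηW t
  have h2 : r • x = FF.ff f h (Y.presheaf.germ V (genericPoint Y) hηV r) * x := by
    rw [Algebra.smul_def]; rfl
  have h3 : FF.ff f h (Y.presheaf.germ V (genericPoint Y) hηV r) ≠ 0 := by
    intro h0
    have h4 := (FF.ff f h).injective (h0.trans (map_zero _).symm)
    apply hr0
    exact (IsFractionRing.injective Γ(Y, V) Y.functionField) (h4.trans (map_zero _).symm)
  rw [map_div₀, div_eq_iff h3, mul_comm, ← h2, ← hs, ← ht]
  exact h1

/-- Transfer along birational morphisms. -/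
theorem ac_of_square {F Y₁ : Scheme.{u}} [IsIntegral F] [IsIntegral Y₁] {φ : X ⟶ Y} {q : F ⟶ X} {ρ : Y₁ ⟶ Y}
    {ψ : F ⟶ Y₁} (hsq : q ≫ φ = ψ ≫ ρ) (hφ : φ (genericPoint X) = genericPoint Y)
    (hq : q (genericPoint F) = genericPoint X) (hρ : ρ (genericPoint Y₁) = genericPoint Y)
    (hψ : ψ (genericPoint F) = genericPoint Y₁) (hqb : Function.Bijective (FF.ff q hq))
    (hρb : Function.Bijective (FF.ff ρ hρ)) (h : AC φ hφ) : AC ψ hψ := by
  have h1 : ∀ a, FF.ff ψ hψ (FF.ff ρ hρ a) = FF.ff q hq (FF.ff φ hφ a) := by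
    intro a
    have e1 : (q ≫ φ) (genericPoint F) = genericPoint Y := by rw [Scheme.Hom.comp_apply, hq, hφ]
    have e2 : (ψ ≫ ρ) (genericPoint F) = genericPoint Y := by rw [Scheme.Hom.comp_apply, hψ, hρ]
    rw [← FF.ff_comp ψ ρ hψ hρ e2, ← FF.ff_comp q φ hq hφ e1, FF.ff_congr hsq e1 e2]
  intro x ⟨p, hp0, hp⟩
  obtain ⟨x₀, rfl⟩ := hqb.2 x
  obtain ⟨p₀, rfl⟩ := Polynomial.map_surjective (FF.ff ρ hρ) hρb.2 p
  have hp₀ : p₀ ≠ 0 := by rintro rfl; exact hp0 (Polynomial.map_zero _)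
  have hcomp : (FF.ff ψ hψ).comp (FF.ff ρ hρ) = (FF.ff q hq).comp (FF.ff φ hφ) := RingHom.ext h1
  rw [Polynomial.eval₂_map, hcomp, ← Polynomial.hom_eval₂] at hp
  have h2 : Polynomial.eval₂ (FF.ff φ hφ) x₀ p₀ = 0 := hqb.1 (hp.trans (map_zero _).symm)
  obtain ⟨a, rfl⟩ := h x₀ ⟨p₀, hp₀, h2⟩
  exact ⟨FF.ff ρ hρ a, h1 a⟩

/-- Proper morphisms to normal schemes with algebraically closed function field have `f_* O = O`. -/
theorem isIso_app_of_ac [IsLocallyNoetherian X] [IsLocallyNoetherian Y] (hY : Pi1.IsNormalScheme Y) (f : X ⟶ Y)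
    [IsProper f] (h : f (genericPoint X) = genericPoint Y) (hac : AC f h) (V : Y.Opens) : IsIso (f.app V) :=
  Groth.Agent.S2422.result hY f (specializes_of_eq h) hac V

end K88.AlgCl
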