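import Groth.Agent.Vanish.K88.AlgCl
import Groth.Agent.PosLin.K931.Semiample
import Groth.Agent.Variety.K432.CurveNorm
import Groth.Agent.CycB.RelDim2

/-!
# S16905, (a) ⟹ (b): Stein factorization and dimensions
-/

set_option autoImplicit false
universe u
open CategoryTheory CategoryTheory.Limits AlgebraicGeometry TopologicalSpace

namespace K88.Stein

open K84.Iface K660 K88.AlgCl Groth.Agent Groth.Agent.CycB

/-- Stein factorization of a proper surjective morphism from a normal integral scheme. -/
theorem exists_stein {X P : Scheme.{u}} [IsIntegral X] [IsLocallyNoetherian P]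
    (hX : ∀ x : X, IsIntegrallyClosed (X.presheaf.stalk x)) (r : X ⟶ P) [IsProper r] [Surjective r] :
    ∃ (Y : Scheme.{u}) (φ : X ⟶ Y) (ν : Y ⟶ P) (_ : IsIntegral Y) (_ : IsFinite ν) (_ : Surjective φ)
      (_ : Surjective ν) (hφ : φ (genericPoint X) = genericPoint Y), φ ≫ ν = r ∧ AC φ hφ := by
  have hfin : IsFinite r.fromNormalization := S1297.result r
  have hφ : ∀ U : r.normalization.Opens, Function.Bijective (r.toNormalization.app U) := fun U => by
    have := S1340.result r U
    exact (ConcreteCategory.isIso_iff_bijective _).mp this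
  have hint : IsIntegral r.normalization := K931.Semiample.isIntegral_of_bijective r.toNormalization hφ
  have hprop : IsProper r.toNormalization := by
    have : IsProper (r.toNormalization ≫ r.fromNormalization) := by
      rw [r.toNormalization_fromNormalization]; infer_instance
    exact .of_comp r.toNormalization r.fromNormalization
  have hsurj : Surjective r.toNormalization := by
    refine ⟨?_⟩
    rw [← Set.range_eq_univ, ← (r.toNormalization.isClosedMap.isClosed_range).closure_eq]
    exact r.toNormalization.denseRange.closure_range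
  have hsurj' : Surjective r.fromNormalization := by
    have : Surjective (r.toNormalization ≫ r.fromNormalization) := by
      rw [r.toNormalization_fromNormalization]; infer_instance
    exact Surjective.of_comp r.toNormalization r.fromNormalization
  have hη : r.toNormalization (genericPoint X) = genericPoint r.normalization :=
    K432.CurveNorm.map_genericPoint r.toNormalization
  exact ⟨r.normalization, r.toNormalization, r.fromNormalization, hint, hfin, hsurj, hsurj', hη,
    r.toNormalization_fromNormalization, ac_of_isIso_app hX _ hη fun V => S1340.result r V⟩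

/-- Dimensions and generically finite dominant morphisms. -/
theorem dim_eq {k : Type u} [Field k] {X Y : Scheme.{u}} [IsIntegral X] [IsIntegral Y]
    (y : Y ⟶ Spec (CommRingCat.of k)) [LocallyOfFiniteType y] (f : X ⟶ Y) [LocallyOfFiniteType f]
    (hf : f (genericPoint X) = genericPoint Y) (h0 : RelDim.rtd f (genericPoint X) = 0) (n : ℕ)
    (hn : topologicalKrullDim Y = n) : topologicalKrullDim X = n := by
  rw [K432.CurveNorm.dim_eq_iff (f ≫ y), RelDim.rtd_comp, h0, add_zero, hf]
  exact (K432.CurveNorm.dim_eq_iff y n).1 hn

theorem rtd_eq_zero_of_isBir {X Y : Scheme.{u}} [IsIntegral X] [IsIntegral Y] {f : X ⟶ Y} (h : IsBir f) :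
    RelDim.rtd f (genericPoint X) = 0 := by
  obtain ⟨V, hne, hV⟩ := h
  have hη := K588.Bir.map_genericPoint (f := f) ⟨V, hne, hV⟩
  have h1 : IsIso (f.stalkMap (genericPoint X)) :=
    K588.Bir.isIso_stalkMap_of_mem f hV (by rw [hη]; exact K588.Bir.genericPoint_mem hne)
  refine RelDim.rtd_eq_zero_of_surjective f _ fun y => ?_
  obtain ⟨z, rfl⟩ := X.residue_surjective _ y
  obtain ⟨w, rfl⟩ := (ConcreteCategory.bijective_of_isIso (f.stalkMap (genericPoint X))).2 z
  exact ⟨Y.residue _ w, ConcreteCategory.congr_hom (Scheme.residue_residueFieldMap f (genericPoint X)) w⟩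

theorem rtd_comp_eq_zero {X Y Z : Scheme.{u}} (f : X ⟶ Y) (g : Y ⟶ Z) (x : X) (y : Y) (hxy : f x = y)
    (hf : RelDim.rtd f x = 0) (hg : RelDim.rtd g y = 0) : RelDim.rtd (f ≫ g) x = 0 := by
  rw [RelDim.rtd_comp, hf, hxy, hg, add_zero]

end K88.Stein
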