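import Groth.Agent.Vanish.K88.Model
import Groth.Agent.Vanish.K88.ZarMain
import Groth.Agent.Vanish.K88.Stein
import Groth.Agent.Vanish.K88.BigPull
import Groth.Agent.Vanish.K870.VertMain
import Groth.Agent.VarietyB.GGStalk
import Groth.Agent.S10829
import Groth.Agent.S1535

/-!
# S16905, (a) ⟹ (b)
-/

set_option autoImplicit false
universe u
open CategoryTheory CategoryTheory.Limits AlgebraicGeometry TopologicalSpace

namespace K88.AtoB

open K84.Iface K660 K88.AlgCl Groth.Agent Groth.Agent.CycB K909.Kleiman Groth.Agent.Grpsch.PicGrp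
  Groth.Agent.Fga.JacFactor K931.Eff K660.Semi Groth.Agent.Fdesc.LocGen Groth.Agent.Divis.EffCartier

/-- The saturation lemma, for all fibrations. -/
def SatThm (k : Type u) [Field k] : Prop :=
  ∀ (X Y : Scheme.{u}) [X.Over (Spec (CommRingCat.of k))] [Y.Over (Spec (CommRingCat.of k))] [IsIntegral X]
    [IsIntegral Y] [IsProper (X ↘ Spec (CommRingCat.of k))] [IsProper (Y ↘ Spec (CommRingCat.of k))] (ψ : X ⟶ Y)
    (_ : ψ ≫ (Y ↘ Spec (CommRingCat.of k)) = X ↘ Spec (CommRingCat.of k))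
    (_ : ∀ z : Y, _root_.IsPreconnected (ψ ⁻¹' {z})), Zar.Sat k ψ

theorem notMem_of_ne_univ {X P : Scheme.{u}} [IsIntegral P] (φ : X ⟶ P) [IsProper φ] (S : Set X) (hS : IsClosed S)
    (h : φ '' S ≠ Set.univ) : genericPoint P ∉ φ '' S := by
  intro hη
  apply h
  rw [← Set.univ_subset_iff, ← genericPoint_closure (α := P)]
  exact closure_minimal (Set.singleton_subset_iff.2 hη) (φ.isClosedMap _ hS)

theorem sa_pull {X Y : Scheme.{u}} (f : X ⟶ Y) {c : Pic Y} (h : SA c) : SA (pull f c) := by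
  obtain ⟨m, hm, L, hL, e, hg⟩ := h
  refine ⟨m, hm, (Scheme.Modules.pullback f).obj L, isInvertible_pullback f hL, ?_,
    VarietyB.GGStalk.isGloballyGenerated_pullback f L hg⟩
  rw [← map_pow, e, pull_mk]

/-- Nef times ample is ample. -/
theorem amp_mul {k : Type u} [Field k] (nak : Nak.{u} k) {Y : Scheme.{u}} [Y.Over (Spec (CommRingCat.of k))]
    [IsProper (Y ↘ Spec (CommRingCat.of k))] [IsIntegral Y] {M h : Pic Y} (hM : NefC k Y M) (hh : Amp h) (p : ℕ) :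
    Amp (M ^ p * h) := by
  obtain ⟨n, hn⟩ := FlatModel.exists_dim (Y ↘ Spec (CommRingCat.of k))
  obtain ⟨A, hA, rfl, hA'⟩ := hh
  have h1 : Nef k Y (rep M) := by rw [nef_iff_nefC k Y (rep_inv M), mk_rep]; exact hM
  rw [← mk_rep M, ← mk_tensorPow, mk_mul_mk, amp_mk]
  exact isAmple_tensorPow_tensor k nak Y n hn.le (rep M) A h1 (rep_inv M) hA' p

/-- **The core of (a) ⟹ (b)**: from an Iitaka type map to the semi-ample model. -/
theorem core {k : Type u} [Field k] [IsAlgClosed k] [CharZero k] (hW : ∀ n, W.{u} k n) (hsat : SatThm.{u} k)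
    {X : Scheme.{u}} [X.Over (Spec (CommRingCat.of k))] [IsIntegral X] [IsProper (X ↘ Spec (CommRingCat.of k))]
    (n : ℕ) (hn : topologicalKrullDim X = n) {N Ninv : X.Modules} (hN : PicF.IsInvertible N)
    (hNinv : ClSub.IsInverseOf Ninv N) (hnef : Nef k X N) (m : ℕ)
    (hN1 : ∀ (V : Scheme.{u}) (i : V ⟶ X) [IsClosedImmersion i], IsIntegral V →
      topologicalKrullDim V = ((m + 1 : ℕ) : WithBot ℕ∞) →
        FGA.intNum k X n (fun _ : Fin (m + 1) => Ninv)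
          ((Scheme.Modules.pushforward i).obj (Coh.structureModule V)) = 0)
    {X' : Scheme.{u}} [X'.Over (Spec (CommRingCat.of k))] [IsIntegral X'] [IsProper (X' ↘ Spec (CommRingCat.of k))]
    (π : X' ⟶ X) (hπ : π ≫ (X ↘ Spec (CommRingCat.of k)) = X' ↘ Spec (CommRingCat.of k)) (hπb : IsBir π)
    {H' : X'.Modules} (hH' : CohB1.IsAmple H') (φ : X' ⟶ CohB1.ProjSpace m k)
    (hφ : φ ≫ CohB1.ProjSpace.toSpec m k = X' ↘ Spec (CommRingCat.of k)) [Surjective φ]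
    {E : X'.IdealSheafData} (hE : BlowUp.IsEffCartierIdeal E) (e : ℕ) (he : 0 < e)
    (hO1 : PicF.IsInvertible (Twist.twistProjSpace m k 1))
    (heq : pull π (mk N hN) ^ e * dcl E hE = pull φ (mk (Twist.twistProjSpace m k 1) hO1)) :
    ∃ (Z : Scheme.{u}) (g : Z ⟶ Spec (CommRingCat.of k)) (τ : Z ⟶ X), IsProper g ∧ Smooth g ∧ IsIntegral Z ∧
      (∃ A : Z.Modules, CohB1.IsAmple A) ∧ τ ≫ (X ↘ Spec (CommRingCat.of k)) = g ∧ IsBir τ ∧
      ∃ (μ₀ : ℕ) (I : Z.IdealSheafData), 0 < μ₀ ∧ PicF.IsInvertible (ClSub.idealMod I) ∧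
        ∀ μ : ℕ, 0 < μ → μ₀ ∣ μ → ∃ s : ℕ, 0 < s ∧
          Curv2.IsGloballyGenerated (CohB1.tensorPow
            (CohB1.tensorMod ((Scheme.Modules.pullback τ).obj (CohB1.tensorPow N μ)) (ClSub.idealMod I)) s) := by
  have nak := K424.NakMain.nak.{u} k
  have hV := K870.VertMain.main k nak n hn.le hN hNinv hnef m hN1 π hπ hH' φ hφ hE e hO1 heq
  let P : Scheme.{u} := CohB1.ProjSpace m k
  let _ : P.Over (Spec (CommRingCat.of k)) := ⟨CohB1.ProjSpace.toSpec m k⟩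
  have hPp : IsProper (P ↘ Spec (CommRingCat.of k)) := (inferInstance : IsProper (CohB1.ProjSpace.toSpec m k))
  have hφ' : φ ≫ (P ↘ Spec (CommRingCat.of k)) = X' ↘ Spec (CommRingCat.of k) := hφ
  have hPd : topologicalKrullDim P = (m : ℕ) := S10829.result k m
  have hPi : IsIntegral P := (inferInstance : IsIntegral (CohB1.ProjSpace m k))
  have hPn : IsLocallyNoetherian P := LocallyOfFiniteType.isLocallyNoetherian (P ↘ Spec (CommRingCat.of k))
  have hPH : RelProj.IsHProjective (P ↘ Spec (CommRingCat.of k)) :=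
    (K588.HProj.iff_ample _).2 ⟨hPp, _, VarietyA.AmpleField.isAmple_twistProjSpace m k⟩
  have hφp : IsProper φ := by
    have : IsProper (φ ≫ (P ↘ Spec (CommRingCat.of k))) := by rw [hφ']; infer_instance
    exact IsProper.of_comp φ (P ↘ Spec (CommRingCat.of k))
  have hηE : genericPoint P ∉ φ '' (E.support : Set X') := notMem_of_ne_univ φ _ E.support.isClosed hV
  -- normalization of `X'`
  obtain ⟨X₂, ν₂, hν₂f, hν₂s, hX₂i, hX₂n, hν₂b, -⟩ :=
    Etcore.CurveComp.exists_normalization k X' (X' ↘ Spec (CommRingCat.of k))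
  have hν₂b : IsBir ν₂ := hν₂b
  have hφs : Surjective φ := inferInstance
  have hsurj₂ : Surjective (ν₂ ≫ φ) := inferInstance
  -- Stein factorization
  obtain ⟨Y, φ₂, ν, hYi, hνf, hφ₂s, hνs, hφ₂η, hfac, hac⟩ :=
    Stein.exists_stein (P := P) (fun x => (hX₂n x).2) (ν₂ ≫ φ)
  have hyH : RelProj.IsHProjective (ν ≫ (P ↘ Spec (CommRingCat.of k))) := K588.HProj.comp_finite hPH ν
  have hX'H : RelProj.IsHProjective (X' ↘ Spec (CommRingCat.of k)) :=
    (K588.HProj.iff_ample _).2 ⟨inferInstance, _, hH'⟩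
  have e₂ : φ₂ ≫ ν ≫ (P ↘ Spec (CommRingCat.of k)) = ν₂ ≫ (X' ↘ Spec (CommRingCat.of k)) := by
    rw [← Category.assoc, hfac, Category.assoc, hφ']
  have hx₂H : RelProj.IsHProjective (φ₂ ≫ ν ≫ (P ↘ Spec (CommRingCat.of k))) := by
    rw [e₂]; exact K588.HProj.comp_finite hX'H ν₂
  -- the good model
  obtain ⟨X₃, Y₁, q, ρ, ψ, hX₃i, hY₁i, hX₃n, hsq, hqb, hρb, hsm, hY₁H, hX₃H, hψs, -, hconn, hcod⟩ :=
    Model.exists_model hW (ν ≫ (P ↘ Spec (CommRingCat.of k))) φ₂ hx₂H hyH hφ₂η hac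
  let _ : X₃.Over (Spec (CommRingCat.of k)) := ⟨q ≫ φ₂ ≫ ν ≫ (P ↘ Spec (CommRingCat.of k))⟩
  let _ : Y₁.Over (Spec (CommRingCat.of k)) := ⟨ρ ≫ ν ≫ (P ↘ Spec (CommRingCat.of k))⟩
  have eX₃ : q ≫ φ₂ ≫ ν ≫ (P ↘ Spec (CommRingCat.of k)) = X₃ ↘ Spec (CommRingCat.of k) := rfl
  have eY₁ : ρ ≫ ν ≫ (P ↘ Spec (CommRingCat.of k)) = Y₁ ↘ Spec (CommRingCat.of k) := rfl
  have hX₃p : IsProper (X₃ ↘ Spec (CommRingCat.of k)) := K588.HProj.isProper hX₃H
  have hY₁p : IsProper (Y₁ ↘ Spec (CommRingCat.of k)) := K588.HProj.isProper hY₁H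
  have hY₁sm : Smooth (Y₁ ↘ Spec (CommRingCat.of k)) := hsm
  have hψk : ψ ≫ (Y₁ ↘ Spec (CommRingCat.of k)) = X₃ ↘ Spec (CommRingCat.of k) := by
    rw [← eX₃, ← eY₁, ← Category.assoc, ← hsq, Category.assoc]
  have hreg : ∀ y : Y₁, IsRegularLocalRing (Y₁.presheaf.stalk y) := fun y => S1535.result k Y₁ y
  obtain ⟨α, hα⟩ : ∃ α : X₃ ⟶ X', α = q ≫ ν₂ := ⟨_, rfl⟩
  obtain ⟨β, hβ⟩ : ∃ β : Y₁ ⟶ P, β = ρ ≫ ν := ⟨_, rfl⟩
  have hαβ : α ≫ φ = ψ ≫ β := by
    rw [hα, hβ, Category.assoc, ← hfac, ← Category.assoc, hsq, Category.assoc]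
  have hαk : α ≫ (X' ↘ Spec (CommRingCat.of k)) = X₃ ↘ Spec (CommRingCat.of k) := by
    rw [← eX₃, e₂, hα, Category.assoc]
  have hβk : β ≫ (P ↘ Spec (CommRingCat.of k)) = Y₁ ↘ Spec (CommRingCat.of k) := by
    rw [← eY₁, hβ, Category.assoc]
  have hαb : IsBir α := by rw [hα]; exact K588.Bir.isBir_comp q ν₂ hqb hν₂b
  have hαη : α (genericPoint X₃) = genericPoint X' := K588.Bir.map_genericPoint hαb
  have hψη : ψ (genericPoint X₃) = genericPoint Y₁ := K432.CurveNorm.map_genericPoint ψ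
  have hνη : ν (genericPoint Y) = genericPoint P := K432.CurveNorm.map_genericPoint ν
  have hβη : β (genericPoint Y₁) = genericPoint P := by
    rw [hβ, Scheme.Hom.comp_apply, K588.Bir.map_genericPoint hρb, hνη]
  -- the divisor
  have hE₃ : BlowUp.IsEffCartierIdeal (E.comap α) :=
    K660.Kol.isEff_comap_of_generic α hE (by rw [hαη]; exact K870.VertMain.genericPoint_notMem hE)
  have hE₃Y : genericPoint Y₁ ∉ ψ '' ((E.comap α).support : Set X₃) := by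
    rintro ⟨x, hx, hxη⟩
    apply hηE
    rw [Scheme.IdealSheafData.support_comap] at hx
    refine ⟨α x, hx, ?_⟩
    rw [← hβη, ← hxη, ← Scheme.Hom.comp_apply, hαβ, Scheme.Hom.comp_apply]
  have hdE : pull α (dcl E hE) = dcl (E.comap α) hE₃ := K660.KolUp.pull_dcl α hE hE₃
  obtain ⟨τ₃, hτ₃⟩ : ∃ τ₃ : X₃ ⟶ X, τ₃ = α ≫ π := ⟨_, rfl⟩
  have hτ₃k : τ₃ ≫ (X ↘ Spec (CommRingCat.of k)) = X₃ ↘ Spec (CommRingCat.of k) := by
    rw [hτ₃, Category.assoc, hπ, hαk]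
  have hrel : pull τ₃ (mk N hN) ^ e * dcl (E.comap α) hE₃ =
      pull ψ (pull β (mk (Twist.twistProjSpace m k 1) hO1)) := by
    have h1 : pull ψ (pull β (mk (Twist.twistProjSpace m k 1) hO1)) =
        pull α (pull φ (mk (Twist.twistProjSpace m k 1) hO1)) := by
      rw [← pull_comp, ← pull_comp, hαβ]
    have h2 : pull τ₃ (mk N hN) = pull α (pull π (mk N hN)) := by rw [hτ₃, pull_comp]
    rw [h1, h2, ← hdE, ← heq, map_mul, map_pow]
  have hnef₃ : NefC k X₃ (pull τ₃ (mk N hN)) := by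
    rw [pull_mk τ₃ hN]
    exact (nef_iff_nefC k X₃ _).1 (K427.KleimanNef.nef_pullback k τ₃ hτ₃k N hN
      ((BtoA.nef_iff_nef hN).1 hnef))
  have hdeg : ∀ (C : Scheme.{u}) (i : C ⟶ X₃) [IsClosedImmersion i], IsIntegral C → topologicalKrullDim C = 1 →
      (∃ y : Y₁, Set.range (i ≫ ψ) ⊆ {y}) → dOn k X₃ i (dcl (E.comap α) hE₃) ≤ 0 := by
    intro C i _ hC hdim hc
    have h1 := Zar.dOn_pull_eq_zero ψ hψk i hC hdim hc (pull β (mk (Twist.twistProjSpace m k 1) hO1))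
    rw [← hrel, dOn_mul k X₃ i hdim, dOn_pow k X₃ i hdim] at h1
    have h2 := hnef₃ C i hC hdim
    have h3 : (0 : ℤ) ≤ e * dOn k X₃ i (pull τ₃ (mk N hN)) := mul_nonneg (Int.natCast_nonneg _) h2
    linarith
  obtain ⟨d, B, hd, hB, hBE⟩ := Zar.main (fun x => (hX₃n x).2) hreg ψ hψk hψη hcod (hsat X₃ Y₁ ψ hψk hconn)
    (E.comap α) hE₃ hE₃Y hdeg
  -- the class `M` on `Y₁`
  have hE₃d : BlowUp.IsEffCartierIdeal ((E.comap α) ^ d) := isEff_pow hE₃ d
  have hBX : BlowUp.IsEffCartierIdeal (B.comap ψ) := by rw [hBE]; exact hE₃d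
  have hBc : pull ψ (dcl B hB) = dcl (E.comap α) hE₃ ^ d := by
    rw [K660.KolUp.pull_dcl ψ hB hBX, ← K660.KolUp.dcl_pow hE₃ d hE₃d]
    exact dcl_congr hBE hBX
  obtain ⟨M, hM⟩ : ∃ M : Pic Y₁, M = pull β (mk (Twist.twistProjSpace m k 1) hO1) ^ d * (dcl B hB)⁻¹ := ⟨_, rfl⟩
  have hMN : pull ψ M = pull τ₃ (mk N hN) ^ (e * d) := by
    rw [hM, map_mul, map_pow, map_inv, hBc, ← hrel, mul_pow, ← pow_mul, mul_assoc, mul_inv_cancel, mul_one]
  have hMnef : NefC k Y₁ M := by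
    have h1 : NefC k X₃ (pull ψ M) := by rw [hMN]; exact NefC.pow k X₃ hnef₃ _
    have h2 : Nef k X₃ ((Scheme.Modules.pullback ψ).obj (rep M)) := by
      rw [nef_iff_nefC k X₃ (isInvertible_pullback ψ (rep_inv M)), ← pull_mk ψ (rep_inv M), mk_rep]
      exact h1
    have h3 := BtoA.nef_of_surjective ψ hψk (rep_inv M) h2
    rwa [nef_iff_nefC k Y₁ (rep_inv M), mk_rep] at h3
  -- bigness
  have hY₁d : topologicalKrullDim Y₁ = (m : ℕ) := by
    have : IsProper β := by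
      have : IsProper (β ≫ (P ↘ Spec (CommRingCat.of k))) := by rw [hβk]; infer_instance
      exact IsProper.of_comp β (P ↘ Spec (CommRingCat.of k))
    refine Stein.dim_eq (P ↘ Spec (CommRingCat.of k)) β hβη ?_ m hPd
    rw [hβ]
    exact Stein.rtd_comp_eq_zero ρ ν _ (genericPoint Y) (K588.Bir.map_genericPoint hρb)
      (Stein.rtd_eq_zero_of_isBir hρb) (K432.CurveNorm.rtd_eq_zero_of_locallyQuasiFinite ν _)
  have hdom : IsDominant β := ⟨by
    rw [DenseRange, dense_iff_closure_eq, ← Set.univ_subset_iff, ← genericPoint_closure (α := P)]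
    exact closure_mono (Set.singleton_subset_iff.2 ⟨_, hβη⟩)⟩
  obtain ⟨-, H₁, hH₁⟩ := (K588.HProj.iff_ample _).1 hY₁H
  have hbig : Big (pull β (mk (Twist.twistProjSpace m k 1) hO1)) :=
    BigPull.big_pull k m hY₁d hPd β hβk (VarietyA.AmpleField.isAmple_twistProjSpace m k) hH₁
  have hY₁c : CompactSpace Y₁ := hH₁.2.1
  have hY₁s : Y₁.IsSeparated := K931.Basic.isSeparated k Y₁
  obtain ⟨a, h, D, hD, ha, hh, hMD⟩ := BigPull.exists_div hbig hH₁ d hd hB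
  rw [← hM] at hMD
  -- the resolution `Z`
  obtain ⟨n₃, hn₃⟩ := FlatModel.exists_dim (X₃ ↘ Spec (CommRingCat.of k))
  obtain ⟨Z, z, r, -, hZi, hZH, hzb, hZs, -, -⟩ := hW n₃ X₃ (X₃ ↘ Spec (CommRingCat.of k)) hX₃i hX₃H hn₃ ∅
    isClosed_empty Set.empty_ne_univ
  have hZp : IsProper (z ≫ (X₃ ↘ Spec (CommRingCat.of k))) := K588.HProj.isProper hZH
  obtain ⟨-, HZ, hHZ⟩ := (K588.HProj.iff_ample _).1 hZH
  have hDZ : BlowUp.IsEffCartierIdeal (D.comap (z ≫ ψ)) :=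
    K660.Kol.isEff_comap_of_generic (z ≫ ψ) hD (by
      rw [Scheme.Hom.comp_apply, K588.Bir.map_genericPoint hzb, hψη]
      exact K870.VertMain.genericPoint_notMem hD)
  have hτb : IsBir τ₃ := by rw [hτ₃]; exact K588.Bir.isBir_comp α π hαb hπb
  have hinv := Dix.IdealModCartier.isInvertible_idealMod hDZ
  refine ⟨Z, z ≫ (X₃ ↘ Spec (CommRingCat.of k)), z ≫ τ₃, hZp, hZs, hZi, ⟨HZ, hHZ⟩,
    by rw [Category.assoc, hτ₃k], K588.Bir.isBir_comp z τ₃ hzb hτb, e * d * a, D.comap (z ≫ ψ), by positivity,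
    hinv, ?_⟩
  rintro μ hμ ⟨j, rfl⟩
  have hj : 0 < j := Nat.pos_of_mul_pos_left hμ
  obtain ⟨j, rfl⟩ : ∃ j', j = j' + 1 := ⟨j - 1, by omega⟩
  have hT := isInvertible_pullback (z ≫ τ₃) (isInvertible_tensorPow hN (e * d * a * (j + 1)))
  rw [← sa_mk (isInvertible_tensorMod hT hinv)]
  have hcls : mk _ (isInvertible_tensorMod hT hinv) = pull (z ≫ ψ) (M ^ (a * j) * h) := by
    have h1 : mk _ hT = pull z (pull ψ M) ^ (a * (j + 1)) := by
      rw [← pull_mk (z ≫ τ₃) (isInvertible_tensorPow hN _), mk_tensorPow hN, map_pow, hMN, pull_comp, map_pow, ← pow_mul, mul_assoc (e * d)]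
    have h2 : mk _ hinv = pull z (pull ψ (dcl D hD)) := by
      rw [← pull_comp, K660.KolUp.pull_dcl (z ≫ ψ) hD hDZ]; rfl
    rw [← mk_mul_mk hT hinv, h1, h2, ← map_pow, ← map_pow, ← map_mul, ← map_mul, ← hMD, pull_comp]
    congr 2
    rw [Nat.mul_succ, pow_add, mul_assoc]
  rw [hcls]
  exact sa_pull _ (Amp.sa (amp_mul nak hMnef hh _))

end K88.AtoB
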