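import Groth.Agent.Resolve.K588.Bir
import Groth.Agent.Resolve.K588.HProj
import Groth.Agent.Flat2C.GlobFlat
import Groth.Agent.Flat2C.BlowProper
import Groth.Agent.Flat2C.FlatteningAlg
import Groth.Agent.Flat2D.GenFlatRed4
import Groth.Agent.S2348
import Groth.Agent.Sga67.BlowAmple
import Groth.Agent.S9692
import Groth.Agent.S9693
import Groth.Agent.Vanish.K660.Kol
import Groth.Agent.Variety.K432.CurveNorm

/-!
# S16905, (a) ⟹ (b): flat birational models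

`exists_flat_model`: a surjection `X → Y` of integral projective schemes over a field for which resolution of
singularities holds has a flat birational model `F → Y₁` with `Y₁` smooth.
-/

set_option autoImplicit false
universe u
open CategoryTheory CategoryTheory.Limits AlgebraicGeometry TopologicalSpace

namespace K88.FlatModel

open K84.Iface Groth.Agent.Flat2C.StrictTr Groth.Agent.Flat2C.GlobFlat

theorem isIntegral_of_dominant {X Y : Scheme.{u}} (g : Y ⟶ X) [IsSchemeTheoreticallyDominant g] [QuasiCompact g]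
    [IsIntegral Y] : IsIntegral X := by
  have hred : IsReduced X := IsSchemeTheoreticallyDominant.isReduced g
  have hd : closure (Set.range g) = Set.univ := (Scheme.Hom.denseRange g).closure_range
  have hi : IsIrreducible (Set.univ : Set X) := by
    rw [← hd, ← Set.image_univ]
    exact ((IrreducibleSpace.isIrreducible_univ Y).image g g.continuous.continuousOn).closure
  have hirr : IrreducibleSpace X := (irreducibleSpace_def _).mpr hi
  exact isIntegral_of_irreducibleSpace_of_isReduced _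

/-- The strict transform is an isomorphism over the locus where the centre is trivial. -/
theorem isIso_restrict_killed {T : Scheme.{u}} {E J : T.IdealSheafData} (hE : BlowUp.IsFiniteTypeIdeal E)
    (hJ : IsKilledIdeal E J) (W : T.Opens) (hW : Disjoint (W : Set T) (E.support : Set T)) :
    IsIso (J.subschemeι ∣_ W) := by
  have h1 : E.comap W.ι = ⊤ := by
    rw [← Scheme.IdealSheafData.support_eq_bot_iff, Scheme.IdealSheafData.support_comap]
    ext x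
    simp only [TopologicalSpace.Closeds.coe_preimage, Set.mem_preimage, TopologicalSpace.Closeds.coe_bot,
      Set.mem_empty_iff_false, iff_false]
    exact fun hx => Set.disjoint_left.1 hW x.2 hx
  have h3 : J.comap W.ι = ⊥ := (hJ.comap_of_flat hE W.ι).eq_bot_of_isEff (by rw [h1]; exact Groth.Agent.Divis.EffCartier.isEff_top)
  have h4 : IsIso (J.comap W.ι).subschemeι := by rw [h3]; infer_instance
  have h5 : IsIso (pullback.fst W.ι J.subschemeι) := by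
    rw [← Scheme.IdealSheafData.comapIso_inv_subschemeι]; infer_instance
  rw [← (isPullback_morphismRestrict J.subschemeι W).isoPullback_hom_fst]
  infer_instance

/-- An integral scheme of finite type over a field has finite dimension. -/
theorem exists_dim {k : Type u} [Field k] {X : Scheme.{u}} [IsIntegral X] (p : X ⟶ Spec (CommRingCat.of k))
    [LocallyOfFiniteType p] : ∃ n : ℕ, topologicalKrullDim X = n := by
  obtain ⟨n, hn, -⟩ := K432.CurveLift.exists_dim_closure p (genericPoint X)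
  exact ⟨n, (K432.CurveNorm.dim_eq_iff p n).2 hn⟩

/-- **Flat birational models.** -/
theorem exists_flat_model {k : Type u} [Field k] (hW : ∀ n, W.{u} k n) {X Y : Scheme.{u}} [IsIntegral X]
    [IsIntegral Y] (y : Y ⟶ Spec (CommRingCat.of k)) (φ : X ⟶ Y) [Surjective φ]
    (hx : RelProj.IsHProjective (φ ≫ y)) (hy : RelProj.IsHProjective y) :
    ∃ (F Y₁ : Scheme.{u}) (q : F ⟶ X) (ρ : Y₁ ⟶ Y) (ψ : F ⟶ Y₁), IsIntegral F ∧ IsIntegral Y₁ ∧
      q ≫ φ = ψ ≫ ρ ∧ IsBir q ∧ IsBir ρ ∧ Smooth (ρ ≫ y) ∧ RelProj.IsHProjective (ρ ≫ y) ∧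
      RelProj.IsHProjective (q ≫ φ ≫ y) ∧ Flat ψ ∧ LocallyOfFinitePresentation ψ := by
  have hyp : IsProper y := K588.HProj.isProper hy
  have hxp : IsProper (φ ≫ y) := K588.HProj.isProper hx
  have hφp : IsProper φ := IsProper.of_comp φ y
  have hYn : IsLocallyNoetherian Y := LocallyOfFiniteType.isLocallyNoetherian y
  have hYc : CompactSpace Y := QuasiCompact.compactSpace_of_compactSpace y
  have hYN : IsNoetherian Y := {}
  obtain ⟨U, hU, hfl, hfp⟩ := Groth.Agent.Flat2D.GenFlatRed.exists_dense_flat_fp φ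
  have hUne : (U : Set Y).Nonempty := hU.nonempty
  have hUc : IsCompact (U : Set Y) := NoetherianSpace.isCompact _
  obtain ⟨𝓘, hIft, hIs, H⟩ := exists_flat_center Groth.Agent.Flat2C.FlatteningAlg.ringFlattening φ U hUc
  have hI0 : 𝓘 ≠ ⊥ := by
    intro h
    rw [h] at hIs
    have h2 : (Set.univ : Set Y) = (U : Set Y)ᶜ := by simpa using hIs
    obtain ⟨z, hz⟩ := hUne
    have h3 : z ∈ (U : Set Y)ᶜ := by rw [← h2]; trivial
    exact h3 hz
  have hηI : genericPoint Y ∉ 𝓘.support := by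
    intro h
    have h2 : genericPoint Y ∈ (𝓘.support : Set Y) := h
    rw [hIs] at h2
    exact h2 (K588.Bir.genericPoint_mem hUne)
  obtain ⟨Y', b, hb⟩ := Groth.Agent.Flat2C.BlowExist.exists_isBlowUp 𝓘
  obtain ⟨hY'i, hbη, -⟩ := Groth.Agent.S2348.result 𝓘 hI0 b hb
  have hbp : IsProper b := Groth.Agent.Flat2C.BlowProper.isProper_of_isBlowUp hb hIft
  have hbir : IsBir b := ⟨U, hUne,
    Groth.Agent.Divis.BlowUpFormal.isIso_morphismRestrict_compl_support hb U (by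
      rw [hIs]; exact disjoint_compl_right)⟩
  obtain ⟨-, L, hL⟩ := (K588.HProj.iff_ample y).1 hy
  have hbH : RelProj.IsHProjective (b ≫ y) :=
    (K588.HProj.iff_ample _).2 ⟨inferInstance, Groth.Agent.Sga67.BlowAmple.exists_isAmple hb L hL⟩
  obtain ⟨n, hn⟩ := exists_dim (b ≫ y)
  obtain ⟨Y₁, φ₁, r, D, hY₁i, hY₁H, hφ₁b, hY₁s, -, -⟩ := hW n Y' (b ≫ y) hY'i hbH hn ∅ isClosed_empty
    (Set.empty_ne_univ)
  have hρ : IsBir (φ₁ ≫ b) := K588.Bir.isBir_comp φ₁ b hφ₁b hbir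
  have hEff : BlowUp.IsEffCartierIdeal (𝓘.comap (φ₁ ≫ b)) := by
    rw [Scheme.IdealSheafData.comap_comp]
    refine K660.Kol.isEff_comap_of_generic φ₁ hb.1 ?_
    rw [K588.Bir.map_genericPoint hφ₁b, Scheme.IdealSheafData.support_comap]
    intro h
    have h2 : b (genericPoint Y') ∈ 𝓘.support := h
    rw [K588.Bir.map_genericPoint hbir] at h2
    exact hηI h2
  obtain ⟨ρ, hρdef⟩ : ∃ ρ : Y₁ ⟶ Y, ρ = φ₁ ≫ b := ⟨_, rfl⟩
  rw [← hρdef] at hρ hEff
  have hρy : ρ ≫ y = φ₁ ≫ b ≫ y := by rw [hρdef, Category.assoc]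
  have hρp : IsProper (ρ ≫ y) := by rw [hρy]; exact K588.HProj.isProper hY₁H
  let p₁ := pullback.fst φ ρ
  let p₂ := pullback.snd φ ρ
  let E := (𝓘.comap φ).comap p₁
  have hEft : BlowUp.IsFiniteTypeIdeal E :=
    isFiniteTypeIdeal_comap (isFiniteTypeIdeal_comap hIft φ) p₁
  let 𝒥 := killedIdeal E
  have h𝒥 : IsKilledIdeal E 𝒥 := isKilledIdeal_killedIdeal hEft
  obtain ⟨hfl', hfp'⟩ := H ρ hEff p₁ p₂ (IsPullback.of_hasPullback _ _) 𝒥 h𝒥
  obtain ⟨V₀, hV₀, hV₀i⟩ := id hρ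
  let V := V₀ ⊓ U
  have hVne : (V : Set Y).Nonempty := nonempty_preirreducible_inter V₀.2 U.2 hV₀ hUne
  have hVi : IsIso (ρ ∣_ V) := K588.Bir.isIso_restrict_le ρ inf_le_left hV₀i
  have h1 : IsIso (p₁ ∣_ (φ ⁻¹ᵁ V)) :=
    K588.Bir.isIso_restrict_of_isPullback (IsPullback.of_hasPullback φ ρ).flip hVi
  have h2 : IsIso (𝒥.subschemeι ∣_ (p₁ ⁻¹ᵁ φ ⁻¹ᵁ V)) := by
    refine isIso_restrict_killed hEft h𝒥 _ (Set.disjoint_left.2 fun x hx hx' => ?_)
    have h3 : x ∈ E.support := hx'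
    rw [Scheme.IdealSheafData.support_comap, Scheme.IdealSheafData.support_comap] at h3
    have h4 : φ (p₁ x) ∈ (𝓘.support : Set Y) := h3
    rw [hIs] at h4
    exact h4 (show φ (p₁ x) ∈ V from hx).2
  have hq : IsIso ((𝒥.subschemeι ≫ p₁) ∣_ (φ ⁻¹ᵁ V)) := by
    rw [morphismRestrict_comp]; exact IsIso.comp_isIso' h2 h1
  have hne : ((φ ⁻¹ᵁ V : X.Opens) : Set X).Nonempty := by
    obtain ⟨v, hv⟩ := hVne
    obtain ⟨x, hx⟩ := φ.surjective v
    exact ⟨x, by change φ x ∈ V; rw [hx]; exact hv⟩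
  have hsq : (𝒥.subschemeι ≫ p₁) ≫ φ = (𝒥.subschemeι ≫ p₂) ≫ ρ := by
    rw [Category.assoc, Category.assoc, pullback.condition]
  have hOeq : (𝒥.subschemeι ≫ p₂) ⁻¹ᵁ (ρ ⁻¹ᵁ V) = (𝒥.subschemeι ≫ p₁) ⁻¹ᵁ (φ ⁻¹ᵁ V) := by
    rw [← Scheme.Hom.comp_preimage, ← Scheme.Hom.comp_preimage, hsq]
  have hFi : IsIntegral 𝒥.subscheme := by
    have i0 : Nonempty (φ ⁻¹ᵁ V : X.Opens) := by obtain ⟨x, hx⟩ := hne; exact ⟨⟨x, hx⟩⟩
    have i1 : IsIntegral ((φ ⁻¹ᵁ V : X.Opens) : Scheme.{u}) := inferInstance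
    have i2 : IsIntegral ((𝒥.subschemeι ≫ p₁) ⁻¹ᵁ (φ ⁻¹ᵁ V) : Scheme.{u}) :=
      have : Nonempty ((𝒥.subschemeι ≫ p₁) ⁻¹ᵁ (φ ⁻¹ᵁ V) : Scheme.{u}) :=
        ⟨(inv ((𝒥.subschemeι ≫ p₁) ∣_ (φ ⁻¹ᵁ V))) i0.some⟩
      isIntegral_of_isOpenImmersion ((𝒥.subschemeι ≫ p₁) ∣_ (φ ⁻¹ᵁ V))
    have i3 : IsIntegral ((𝒥.subschemeι ≫ p₂) ⁻¹ᵁ (ρ ⁻¹ᵁ V) : Scheme.{u}) := by rw [hOeq]; exact i2
    have hOne : ((ρ ⁻¹ᵁ V : Y₁.Opens) : Set Y₁).Nonempty := by
      obtain ⟨v, hv⟩ := hVne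
      obtain ⟨x, hx⟩ := K588.Bir.exists_of_isIso_restrict ρ hVi hv
      exact ⟨x, by change ρ x ∈ V; rw [hx]; exact hv⟩
    have i4 : IsDominant (ρ ⁻¹ᵁ V).ι := ⟨by
      rw [DenseRange, Scheme.Opens.range_ι]
      exact (ρ ⁻¹ᵁ V).2.dense hOne⟩
    have i5 : IsSchemeTheoreticallyDominant (ρ ⁻¹ᵁ V).ι := .of_isDominant _
    have i6 : IsLocallyNoetherian Y₁ := LocallyOfFiniteType.isLocallyNoetherian (ρ ≫ y)
    have i7 : IsSchemeTheoreticallyDominant ((𝒥.subschemeι ≫ p₂) ⁻¹ᵁ (ρ ⁻¹ᵁ V)).ι :=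
      IsSchemeTheoreticallyDominant.of_isPullback (isPullback_morphismRestrict (𝒥.subschemeι ≫ p₂) (ρ ⁻¹ᵁ V))
    have i8 : QuasiCompact ((𝒥.subschemeι ≫ p₂) ⁻¹ᵁ (ρ ⁻¹ᵁ V)).ι :=
      MorphismProperty.of_isPullback (isPullback_morphismRestrict (𝒥.subschemeι ≫ p₂) (ρ ⁻¹ᵁ V)) inferInstance
    exact isIntegral_of_dominant ((𝒥.subschemeι ≫ p₂) ⁻¹ᵁ (ρ ⁻¹ᵁ V)).ι
  refine ⟨𝒥.subscheme, Y₁, 𝒥.subschemeι ≫ p₁, ρ, 𝒥.subschemeι ≫ p₂, hFi, hY₁i, hsq, ⟨_, hne, hq⟩, hρ, ?_, ?_, ?_,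
    hfl', hfp'⟩
  · rw [hρy]; exact hY₁s
  · rw [hρy]; exact hY₁H
  · let c : 𝒥.subscheme ⟶ pullback (φ ≫ y) (ρ ≫ y) := 𝒥.subschemeι ≫ pullback.mapDesc φ ρ y
    have hc : IsClosedImmersion c := inferInstance
    have h3 : RelProj.IsHProjective (pullback.snd (φ ≫ y) (ρ ≫ y) ≫ ρ ≫ y) :=
      Groth.Agent.S9692.result _ _ (Groth.Agent.S9693.result _ hx _) (by rw [hρy]; exact hY₁H)
    have h4 := K588.HProj.comp_finite h3 c
    have h5 : c ≫ pullback.snd (φ ≫ y) (ρ ≫ y) ≫ ρ ≫ y = (𝒥.subschemeι ≫ p₁) ≫ φ ≫ y := by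
      have h6 : pullback.mapDesc φ ρ y ≫ pullback.snd (φ ≫ y) (ρ ≫ y) = p₂ := by
        change pullback.lift _ _ _ ≫ _ = _
        rw [pullback.lift_snd, Category.comp_id]
      rw [show c ≫ pullback.snd (φ ≫ y) (ρ ≫ y) ≫ ρ ≫ y =
        (𝒥.subschemeι ≫ (pullback.mapDesc φ ρ y ≫ pullback.snd (φ ≫ y) (ρ ≫ y))) ≫ ρ ≫ y by
          simp only [c, Category.assoc], h6, ← Category.assoc, ← hsq, Category.assoc]
    rw [← h5]; exact h4

end K88.FlatModel
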