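import Groth.Agent.Vanish.K88.FlatModel
import Groth.Agent.Vanish.K88.AlgCl
import Groth.Agent.Sga4h.H924.Codim
import Groth.Agent.Sga2lef.H98.DimForm
import Groth.Agent.CycB.SetupLft
import Groth.Agent.CycA.SetupField
import Groth.Agent.Curves.K323.NormBC
import Groth.Agent.CurvSt.K897.ContractNode
import Groth.Agent.Etcore.CurveComp

/-!
# S16905, (a) ⟹ (b): good birational models of a fibration

`exists_model`: a surjection `X → Y` of integral projective schemes with `K(Y)` algebraically closed in `K(X)` has a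
birational model `X₃ → Y₁` with `Y₁` smooth, `X₃` normal, connected fibres, such that points of codimension one go to
points of codimension `≤ 1`.
-/

set_option autoImplicit false
universe u
open CategoryTheory CategoryTheory.Limits AlgebraicGeometry TopologicalSpace

namespace K88.Model

open K84.Iface K660 K88.AlgCl

theorem isUniversallyCatenary_Γ {k : Type u} [Field k] {F : Scheme.{u}} (f : F ⟶ Spec (CommRingCat.of k))
    [LocallyOfFiniteType f] {V : F.Opens} (hV : IsAffineOpen V) : CAlg.IsUniversallyCatenary Γ(F, V) := by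
  have := LocallyOfFiniteType.isLocallyNoetherian f
  exact Groth.Agent.CycB.SetupLft.isUniversallyCatenary_of_isAffineOpen
    (Groth.Agent.CycB.SetupLft.isUniversallyCatenary_stalk f
      (Groth.Agent.CycA.SetupField.isUniversallyCatenary_stalk_Spec k)) hV

/-- Finite birational morphisms over a field preserve the dimensions of the stalks. -/
theorem dim_stalk_eq {k : Type u} [Field k] {X F : Scheme.{u}} [IsIntegral X] [IsIntegral F]
    (f : F ⟶ Spec (CommRingCat.of k)) [LocallyOfFiniteType f] (ν : X ⟶ F) [IsFinite ν]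
    (hν : ν (genericPoint X) = genericPoint F) (x : X) :
    ringKrullDim (X.presheaf.stalk x) = ringKrullDim (F.presheaf.stalk (ν x)) := by
  obtain ⟨V, hV, hxV, -⟩ := exists_isAffineOpen_mem_and_subset (X := F) (x := ν x) (U := ⊤) trivial
  obtain ⟨a, b, c, d, ha, hb, hc, hd, h⟩ := Groth.Agent.Sga2lef.H98.DimForm.exists_dim_formula ν hν x V hV hxV
    (isUniversallyCatenary_Γ f hV)
  have h0 : ∀ z, Groth.Agent.CycB.RelDim.rtd ν z = 0 := fun z =>
    K432.CurveNorm.rtd_eq_zero_of_locallyQuasiFinite ν z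
  rw [h0] at hb hd
  have hb' : b = 0 := by exact_mod_cast hb.symm
  have hd' : d = 0 := by exact_mod_cast hd.symm
  rw [ha, hc]
  have : a = c := by omega
  rw [this]

/-- **Good birational models of a fibration.** -/
theorem exists_model {k : Type u} [Field k] (hW : ∀ n, W.{u} k n) {X Y : Scheme.{u}} [IsIntegral X]
    [IsIntegral Y] (y : Y ⟶ Spec (CommRingCat.of k)) (φ : X ⟶ Y) [Surjective φ]
    (hx : RelProj.IsHProjective (φ ≫ y)) (hy : RelProj.IsHProjective y)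
    (hφ : φ (genericPoint X) = genericPoint Y) (hac : AC φ hφ) :
    ∃ (X₃ Y₁ : Scheme.{u}) (q : X₃ ⟶ X) (ρ : Y₁ ⟶ Y) (ψ : X₃ ⟶ Y₁), IsIntegral X₃ ∧ IsIntegral Y₁ ∧
      Pi1.IsNormalScheme X₃ ∧ q ≫ φ = ψ ≫ ρ ∧ IsBir q ∧ IsBir ρ ∧ Smooth (ρ ≫ y) ∧
      RelProj.IsHProjective (ρ ≫ y) ∧ RelProj.IsHProjective (q ≫ φ ≫ y) ∧ Surjective ψ ∧
      (∀ V : Y₁.Opens, IsIso (ψ.app V)) ∧ (∀ z : Y₁, _root_.IsPreconnected (ψ ⁻¹' {z})) ∧
      (∀ x : X₃, ringKrullDim (X₃.presheaf.stalk x) = 1 → ringKrullDim (Y₁.presheaf.stalk (ψ x)) ≤ 1) := by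
  obtain ⟨F, Y₁, q, ρ, ψ, hFi, hYi, hsq, hq, hρ, hsm, hYH, hFH, hfl, hfp⟩ :=
    FlatModel.exists_flat_model hW y φ hx hy
  have hFp : IsProper (q ≫ φ ≫ y) := K588.HProj.isProper hFH
  obtain ⟨X₃, ν, hνf, hνs, hX₃i, hX₃n, hνb, -⟩ :=
    Groth.Agent.Etcore.CurveComp.exists_normalization k F (q ≫ φ ≫ y)
  have hνb : IsBir ν := hνb
  have hq₃ : IsBir (ν ≫ q) := K588.Bir.isBir_comp ν q hνb hq
  have hYp : IsProper (ρ ≫ y) := K588.HProj.isProper hYH
  have hX₃H : RelProj.IsHProjective ((ν ≫ q) ≫ φ ≫ y) := by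
    rw [Category.assoc]
    exact K588.HProj.comp_finite hFH ν
  have hX₃p : IsProper ((ν ≫ q) ≫ φ ≫ y) := K588.HProj.isProper hX₃H
  have hX₃n' : IsLocallyNoetherian X₃ := LocallyOfFiniteType.isLocallyNoetherian ((ν ≫ q) ≫ φ ≫ y)
  have hY₁n' : IsLocallyNoetherian Y₁ := LocallyOfFiniteType.isLocallyNoetherian (ρ ≫ y)
  have hsq₃ : (ν ≫ q) ≫ φ = (ν ≫ ψ) ≫ ρ := by rw [Category.assoc, hsq, Category.assoc]
  have hψp : IsProper (ν ≫ ψ) := by
    have : IsProper ((ν ≫ ψ) ≫ ρ ≫ y) := by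
      rw [← Category.assoc, ← hsq₃, Category.assoc]; exact hX₃p
    exact IsProper.of_comp (ν ≫ ψ) (ρ ≫ y)
  have hqη : (ν ≫ q) (genericPoint X₃) = genericPoint X := K588.Bir.map_genericPoint hq₃
  have hρη : ρ (genericPoint Y₁) = genericPoint Y := K588.Bir.map_genericPoint hρ
  have hψη : (ν ≫ ψ) (genericPoint X₃) = genericPoint Y₁ := by
    obtain ⟨V, hVne, hV⟩ := id hρ
    have h1 : ρ ((ν ≫ ψ) (genericPoint X₃)) = genericPoint Y := by
      rw [← Scheme.Hom.comp_apply, ← hsq₃, Scheme.Hom.comp_apply, hqη, hφ]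
    exact K588.Bir.inj_of_isIso_restrict ρ hV (by rw [h1]; exact K588.Bir.genericPoint_mem hVne)
      (h1.trans hρη.symm)
  have hYn : Pi1.IsNormalScheme Y₁ := Groth.Agent.Curves.K323.NormBC.isNormalScheme_of_smooth (ρ ≫ y)
  have hac₃ : AC (ν ≫ ψ) hψη := ac_of_square hsq₃ hφ hqη hρη hψη (K588.Bir.bijective_ff hq₃ hqη)
    (K588.Bir.bijective_ff hρ hρη) hac
  have happ : ∀ V : Y₁.Opens, IsIso ((ν ≫ ψ).app V) := fun V => isIso_app_of_ac hYn (ν ≫ ψ) hψη hac₃ V
  have hsurj : Surjective (ν ≫ ψ) := by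
    refine ⟨?_⟩
    rw [← Set.range_eq_univ, ← ((ν ≫ ψ).isClosedMap.isClosed_range).closure_eq]
    refine Set.eq_univ_of_univ_subset ?_
    rw [← (genericPoint_spec Y₁).def]
    exact closure_mono (Set.singleton_subset_iff.2 ⟨_, hψη⟩)
  refine ⟨X₃, Y₁, ν ≫ q, ρ, ν ≫ ψ, hX₃i, hYi, hX₃n, hsq₃, hq₃, hρ, hsm, hYH, hX₃H, hsurj, happ,
    fun z => K897.ContractNode.isPreconnected_fibre (ν ≫ ψ) happ z, ?_⟩
  intro x hx1
  have h1 := dim_stalk_eq (q ≫ φ ≫ y) ν (K588.Bir.map_genericPoint hνb) x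
  have h2 := Groth.Agent.Sga4h.H924.Codim.le_ringKrullDim_of_flat ψ (ν x)
  rw [← h1, hx1] at h2
  exact h2

end K88.Model
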