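import Groth.Agent.Vanish.K909.RootArg
import Mathlib.Algebra.Polynomial.Roots

/-!
# Non-vanishing of `f(tℓ + a, …, tℓ + a)` for some `t > 0`
-/

set_option autoImplicit false

namespace K88.PolArg

open K909.RootArg

variable {V : Type*} [AddCommGroup V]

theorem exists_ne_zero {r : ℕ} (f : MultilinearMap ℤ (fun _ : Fin r => V) ℤ) (ℓ a : V)
    (h : f (fun _ => ℓ) ≠ 0) {μ₀ : ℕ} (hμ₀ : 0 < μ₀) :
    ∃ t : ℕ, 0 < t ∧ μ₀ ∣ t ∧ f (fun _ => t • ℓ + 1 • a) ≠ 0 := by
  classical
  set P : Polynomial ℤ := ∑ s : Finset (Fin r), Polynomial.C (mixv f ℓ a s) * Polynomial.X ^ s.card with hP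
  have hPe : ∀ t : ℕ, P.eval (t : ℤ) = f (fun _ => t • ℓ + 1 • a) := by
    intro t
    rw [map_combo, hP, Polynomial.eval_finsetSum]
    refine Finset.sum_congr rfl fun s _ => ?_
    rw [Polynomial.eval_mul, Polynomial.eval_C, Polynomial.eval_pow, Polynomial.eval_X]
    simp [mul_comm]
  have hP0 : P ≠ 0 := by
    intro h0
    have h1 : P.coeff r = 0 := by rw [h0, Polynomial.coeff_zero]
    rw [hP, Polynomial.finsetSum_coeff, Finset.sum_eq_single Finset.univ] at h1
    · rw [Polynomial.coeff_C_mul, Polynomial.coeff_X_pow, Finset.card_univ, Fintype.card_fin, if_pos rfl, mul_one,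
        mixv_univ] at h1
      exact h h1
    · intro s _ hs
      have : s.card < r := by
        have := Finset.card_lt_card (Finset.ssubset_univ_iff.mpr hs)
        simpa using this
      rw [Polynomial.coeff_C_mul, Polynomial.coeff_X_pow, if_neg (by omega), mul_zero]
    · intro h; exact absurd (Finset.mem_univ _) h
  by_contra hcon
  push Not at hcon
  apply hP0
  refine Polynomial.eq_zero_of_infinite_isRoot P ?_
  have hinj : Function.Injective (fun t : ℕ => ((μ₀ * (t + 1) : ℕ) : ℤ)) := by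
    intro a b hab
    beta_reduce at hab
    have h1 : μ₀ * (a + 1) = μ₀ * (b + 1) := by exact_mod_cast hab
    have := Nat.eq_of_mul_eq_mul_left hμ₀ h1
    omega
  refine (Set.infinite_range_of_injective hinj).mono ?_
  rintro _ ⟨t, rfl⟩
  change P.IsRoot _
  rw [Polynomial.IsRoot.def, hPe]
  exact hcon _ (Nat.mul_pos hμ₀ (Nat.succ_pos t)) (Dvd.intro _ rfl)

end K88.PolArg
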