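import Groth.Agent.Vanish.K292.NormDiv
import Groth.Agent.Surf.K463.Cl
import Groth.Agent.Vanish.K660.Kol
import Groth.Agent.Vanish.K660.Ram
import Mathlib.Topology.JacobsonSpace

/-!
# S16905, (a) ⟹ (b): a Zariski type lemma

`ψ : X → Y` closed, `X` normal, `Y` regular, points of codimension one go to points of codimension `≤ 1`;
`E` an effective Cartier divisor on `X` whose image is not dense. There are `q > 0` and an effective Cartier divisor
`B` on `Y` with `ψ^* B = q E + J`, `J` effective, such that `J = 0` as soon as the support of `J` is saturated.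
-/

set_option autoImplicit false
universe u
open CategoryTheory CategoryTheory.Limits AlgebraicGeometry TopologicalSpace

namespace K88.Zar

open K292.NormDiv K463.Cl Groth.Agent.Divis.EffCartier Groth.Agent.Divis.IdealComap

variable {X Y : Scheme.{u}}

theorem comap_prod {ι : Type*} (s : Finset ι) (I : ι → Y.IdealSheafData) (f : X ⟶ Y) :
    (∏ i ∈ s, I i).comap f = ∏ i ∈ s, (I i).comap f := by
  classical
  induction s using Finset.induction_on with
  | empty =>
    rw [Finset.prod_empty, Finset.prod_empty]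
    have h := comap_pow (⊤ : Y.IdealSheafData) f 0
    rwa [pow_zero, pow_zero] at h
  | insert a s ha ih =>
    rw [Finset.prod_insert ha, Finset.prod_insert ha, comap_mul, ih]

theorem isEff_prod {ι : Type*} (s : Finset ι) (D : ι → X.IdealSheafData)
    (hD : ∀ i ∈ s, BlowUp.IsEffCartierIdeal (D i)) : BlowUp.IsEffCartierIdeal (∏ i ∈ s, D i) := by
  classical
  induction s using Finset.induction_on with
  | empty => rw [Finset.prod_empty]; exact isEff_top
  | insert a s has ih =>
    rw [Finset.prod_insert has]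
    exact isEff_mul (hD a (Finset.mem_insert_self _ _)) (ih fun i hi => hD i (Finset.mem_insert_of_mem hi))

theorem mult_prod [IsIntegral X] {ι : Type*} (s : Finset ι) (D : ι → X.IdealSheafData)
    (hD : ∀ i ∈ s, BlowUp.IsEffCartierIdeal (D i)) (x : X) : mult (∏ i ∈ s, D i) x = ∑ i ∈ s, mult (D i) x := by
  classical
  induction s using Finset.induction_on with
  | empty =>
    rw [Finset.prod_empty, Finset.sum_empty]
    exact mult_of_notMem (by
      rw [Scheme.IdealSheafData.one_eq_top, Scheme.IdealSheafData.support_top]; exact Set.notMem_empty x)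
  | insert a s has ih =>
    rw [Finset.prod_insert has, Finset.sum_insert has, mult_mul (hD a (Finset.mem_insert_self _ _))
      (isEff_prod s D fun i hi => hD i (Finset.mem_insert_of_mem hi)),
      ih fun i hi => hD i (Finset.mem_insert_of_mem hi)]

theorem coheight_lt {a b : X} (hab : a ⤳ b) (hne : a ≠ b) : Order.coheight a + 1 ≤ Order.coheight b := by
  have hlt : b < a := by
    refine lt_of_le_not_ge (show b ≤ a from hab) (fun h' => ?_)
    have h'' : b ⤳ a := h'
    exact hne (hab.antisymm h'').eq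
  exact Order.coheight_add_one_le hlt

theorem coheight_genericPoint [IsIntegral X] : Order.coheight (genericPoint X) = 0 := by
  rw [Order.coheight_eq_zero]
  intro b _
  exact (show genericPoint X ⤳ b from genericPoint_specializes b)

theorem one_le_coheight [IsIntegral X] {x : X} (h : x ≠ genericPoint X) : 1 ≤ Order.coheight x := by
  have h1 := coheight_lt (genericPoint_specializes x) (Ne.symm h)
  rwa [coheight_genericPoint, zero_add] at h1

/-- A point of codimension `≤ 1` specializing from a point of codimension one. -/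
theorem eq_of_specializes {a b : X} (hab : a ⤳ b) (ha : Order.coheight a = 1) (hb : Order.coheight b ≤ 1) :
    b = a := by
  by_contra hne
  have h1 := coheight_lt hab (Ne.symm hne)
  rw [ha] at h1
  exact absurd (h1.trans hb) (by decide)

/-- The points of codimension one in a proper closed subset are finite in number. -/
theorem finite_codim_one [IsIntegral X] [NoetherianSpace X] {Z : Set X} (hZ : IsClosed Z)
    (hη : genericPoint X ∉ Z) : {x : X | Order.coheight x = 1 ∧ x ∈ Z}.Finite := by
  classical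
  obtain ⟨S, hSf, hSc, hSi, hS⟩ := NoetherianSpace.exists_finite_set_isClosed_irreducible hZ
  let g : Set X → X := fun t => if h : IsIrreducible t ∧ IsClosed t then h.1.genericPoint else genericPoint X
  refine (hSf.image g).subset ?_
  rintro x ⟨hx1, hxZ⟩
  rw [hS] at hxZ
  obtain ⟨t, ht, hxt⟩ := hxZ
  refine ⟨t, ht, ?_⟩
  have hgt : g t = (hSi t ht).genericPoint := dif_pos ⟨hSi t ht, hSc t ht⟩
  have hgc : closure {g t} = t := by
    rw [hgt, (hSi t ht).closure_genericPoint (hSc t ht)]
  have hsp : g t ⤳ x := by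
    rw [specializes_iff_mem_closure, hgc]; exact hxt
  have hgZ : g t ∈ Z := by
    rw [hS]
    exact ⟨t, ht, hgc.subset (subset_closure (Set.mem_singleton _))⟩
  have hg1 : 1 ≤ Order.coheight (g t) := one_le_coheight (fun h => hη (h ▸ hgZ))
  by_contra hne
  have h1 := coheight_lt hsp hne
  rw [hx1] at h1
  have h2 : (1 : ℕ∞) + 1 ≤ 1 := (add_le_add_left hg1 1).trans h1
  exact absurd h2 (by decide)

/-- **The core of the Zariski type lemma.** -/
theorem core [IsIntegral X] [IsIntegral Y] [IsNoetherian X] [IsLocallyNoetherian Y] [JacobsonSpace X]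
    (hX : ∀ x : X, IsIntegrallyClosed (X.presheaf.stalk x))
    (hY : ∀ y : Y, IsRegularLocalRing (Y.presheaf.stalk y)) (ψ : X ⟶ Y)
    (hψ : IsClosedMap ψ) (hη : ψ (genericPoint X) = genericPoint Y)
    (hcod : ∀ x : X, Order.coheight x = 1 → Order.coheight (ψ x) ≤ 1) (E : X.IdealSheafData)
    (hE : BlowUp.IsEffCartierIdeal E) (hEY : genericPoint Y ∉ ψ '' (E.support : Set X)) :
    ∃ (q : ℕ) (B : Y.IdealSheafData) (J : X.IdealSheafData), 0 < q ∧ BlowUp.IsEffCartierIdeal B ∧
      BlowUp.IsEffCartierIdeal J ∧ B.comap ψ = E ^ q * J ∧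
      ((∀ z : Y, IsClosed ({z} : Set Y) → (∃ x ∈ J.support, ψ x = z) → ∀ x : X, ψ x = z → x ∈ J.support) →
        J = ⊤) := by
  classical
  have hηE : genericPoint X ∉ (E.support : Set X) := fun h => hEY ⟨_, h, hη⟩
  -- the codimension one points of `E` and their images
  have hSfin : {x : X | Order.coheight x = 1 ∧ x ∈ (E.support : Set X)}.Finite :=
    finite_codim_one E.support.isClosed hηE
  let T : Finset Y := (hSfin.toFinset).image ψ
  have hT : ∀ y, y ∈ T ↔ ∃ x : X, (Order.coheight x = 1 ∧ x ∈ (E.support : Set X)) ∧ ψ x = y := by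
    intro y
    simp [T]
  have hT1 : ∀ y ∈ T, Order.coheight y = 1 := by
    intro y hy
    obtain ⟨x, ⟨hx1, hxE⟩, rfl⟩ := (hT y).1 hy
    refine le_antisymm (hcod x hx1) (one_le_coheight fun h => hEY ⟨x, hxE, h⟩)
  have hcl : ∀ y ∈ T, BlowUp.IsEffCartierIdeal (cl y) := fun y hy => isEff_cl hY (hT1 y hy)
  have hclX : ∀ y ∈ T, BlowUp.IsEffCartierIdeal ((cl y).comap ψ) := by
    intro y hy
    refine K660.Kol.isEff_comap_of_generic ψ (hcl y hy) ?_
    rw [hη, mem_support_cl]
    intro h
    have h1 := (h.antisymm (genericPoint_specializes y)).eq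
    have h2 := hT1 y hy
    rw [h1, coheight_genericPoint] at h2
    exact absurd h2 (by decide)
  have hmem : ∀ (y : Y) (x : X), x ∈ ((cl y).comap ψ).support ↔ y ⤳ ψ x := by
    intro y x
    rw [Scheme.IdealSheafData.support_comap]
    exact mem_support_cl
  -- the points of codimension one over `T`
  have hPfin : {x : X | Order.coheight x = 1 ∧ ψ x ∈ T}.Finite := by
    have h1 : {x : X | Order.coheight x = 1 ∧ ψ x ∈ T} ⊆
        ⋃ y ∈ T, {x : X | Order.coheight x = 1 ∧ x ∈ (((cl y).comap ψ).support : Set X)} := by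
      rintro x ⟨hx1, hx2⟩
      simp only [Set.mem_iUnion]
      exact ⟨ψ x, hx2, hx1, (hmem _ _).2 specializes_rfl⟩
    refine Set.Finite.subset (Set.Finite.biUnion T.finite_toSet fun y hy => ?_) h1
    refine finite_codim_one ((cl y).comap ψ).support.isClosed fun h => ?_
    have h2 := (hmem _ _).1 h
    rw [hη] at h2
    have h3 := (h2.antisymm (genericPoint_specializes y)).eq
    have h4 := hT1 y hy
    rw [h3, coheight_genericPoint] at h4
    exact absurd h4 (by decide)
  let P : Finset X := hPfin.toFinset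
  have hP : ∀ x, x ∈ P ↔ Order.coheight x = 1 ∧ ψ x ∈ T := fun x => by simp [P]
  let m : X → ℕ := fun x => mult ((cl (ψ x)).comap ψ) x
  have hm : ∀ x ∈ P, 0 < m x := by
    intro x hx
    obtain ⟨hx1, hx2⟩ := (hP x).1 hx
    exact (mult_pos_iff hX (hclX _ hx2) hx1).2 ((hmem _ _).2 specializes_rfl)
  let q : ℕ := ∏ x ∈ P, m x
  have hq : 0 < q := Finset.prod_pos hm
  have hmq : ∀ x ∈ P, q / m x * m x = q := fun x hx => Nat.div_mul_cancel (Finset.dvd_prod_of_mem m hx)
  let e : X → ℕ := fun x => mult E x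
  let a : Y → ℕ := fun y => (P.filter fun x => ψ x = y).sup fun x => q / m x * e x
  let B : Y.IdealSheafData := ∏ y ∈ T, cl y ^ a y
  have hB : BlowUp.IsEffCartierIdeal B := isEff_prod T _ fun y hy => isEff_pow (hcl y hy) _
  have hBX : B.comap ψ = ∏ y ∈ T, (cl y).comap ψ ^ a y := by
    rw [comap_prod]
    exact Finset.prod_congr rfl fun y _ => comap_pow _ _ _
  have hBXe : BlowUp.IsEffCartierIdeal (B.comap ψ) := by
    rw [hBX]; exact isEff_prod T _ fun y hy => isEff_pow (hclX y hy) _
  -- multiplicities of `ψ^* B`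
  have hmB : ∀ x : X, Order.coheight x = 1 → mult (B.comap ψ) x = if ψ x ∈ T then a (ψ x) * m x else 0 := by
    intro x hx
    rw [hBX, mult_prod T _ fun y hy => isEff_pow (hclX y hy) _]
    have h1 : ∀ y ∈ T, mult ((cl y).comap ψ ^ a y) x = if ψ x = y then a (ψ x) * m x else 0 := by
      intro y hy
      rw [mult_pow (hclX y hy)]
      split_ifs with h
      · subst h; rfl
      · rw [mult_of_notMem, mul_zero]
        rw [hmem]
        exact fun hs => h (eq_of_specializes hs (hT1 y hy) (hcod x hx))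
    rw [Finset.sum_congr rfl h1, Finset.sum_ite_eq]
  have hEq : BlowUp.IsEffCartierIdeal (E ^ q) := isEff_pow hE q
  obtain ⟨J, hJ, hJe⟩ := exists_mul_of_mult hX hEq hBXe fun x hx => by
    rw [mult_pow hE, hmB x hx]
    split_ifs with h
    · have hxP : x ∈ P := (hP x).2 ⟨hx, h⟩
      have h1 : q / m x * e x ≤ a (ψ x) := Finset.le_sup (f := fun x => q / m x * e x)
        (Finset.mem_filter.2 ⟨hxP, rfl⟩)
      calc q * mult E x = q / m x * e x * m x := by
            rw [mul_right_comm, hmq x hxP]
        _ ≤ a (ψ x) * m x := Nat.mul_le_mul_right _ h1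
    · have hxE : x ∉ E.support := fun hxE => h ((hT _).2 ⟨x, ⟨hx, hxE⟩, rfl⟩)
      rw [mult_of_notMem hxE, mul_zero]
  refine ⟨q, B, J, hq, hB, hJ, hJe, fun hsat => ?_⟩
  -- if `J ≠ ⊤` it contains a point of codimension one
  by_contra hJtop
  have hex : ∃ x₀ : X, Order.coheight x₀ = 1 ∧ x₀ ∈ J.support := by
    by_contra! hcon
    apply hJtop
    rw [eq_top_iff]
    exact le_of_mult hX hJ isEff_top fun x hx => by rw [mult_of_notMem (hcon x hx)]; exact Nat.zero_le _
  obtain ⟨x₀, hx₀, hx₀J⟩ := hex
  have hx₀B : x₀ ∈ (B.comap ψ).support := by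
    rw [hJe, Scheme.IdealSheafData.support_mul]
    exact Or.inr hx₀J
  have hx₀T : ψ x₀ ∈ T := by
    rw [hBX, K660.Ram.mem_support_prod] at hx₀B
    obtain ⟨y, hy, h1⟩ := hx₀B
    have h2 : x₀ ∈ ((cl y).comap ψ).support := by
      by_contra hcon
      have h3 : mult ((cl y).comap ψ ^ a y) x₀ = 0 := by rw [mult_pow (hclX y hy), mult_of_notMem hcon, mul_zero]
      exact (mult_eq_zero_iff hX (isEff_pow (hclX y hy) _) hx₀).1 h3 h1
    rw [hmem] at h2
    rw [eq_of_specializes h2 (hT1 y hy) (hcod x₀ hx₀)]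
    exact hy
  -- the point where the maximal slope is attained
  obtain ⟨xs, ⟨hxs1, hxsE⟩, hxs⟩ := (hT _).1 hx₀T
  have hne : (P.filter fun x => ψ x = ψ x₀).Nonempty :=
    ⟨xs, Finset.mem_filter.2 ⟨(hP _).2 ⟨hxs1, by rw [hxs]; exact hx₀T⟩, hxs⟩⟩
  obtain ⟨xm, hxm, hxma⟩ := Finset.exists_mem_eq_sup _ hne fun x => q / m x * e x
  obtain ⟨hxmP, hxmψ⟩ := Finset.mem_filter.1 hxm
  obtain ⟨hxm1, hxmT⟩ := (hP _).1 hxmP
  have hmJ : mult J xm = 0 := by
    have h1 := hmB xm hxm1
    rw [if_pos hxmT, hJe, mult_mul hEq hJ, mult_pow hE] at h1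
    have h2 : a (ψ xm) = q / m xm * e xm := by rw [hxmψ]; exact hxma
    rw [h2, mul_right_comm, hmq xm hxmP] at h1
    change q * e xm + mult J xm = q * e xm at h1
    omega
  have hxmJ : xm ∉ J.support := (mult_eq_zero_iff hX hJ hxm1).1 hmJ
  apply hxmJ
  -- saturation
  have hclos : closure {xm} ⊆ (J.support : Set X) := by
    rw [← closure_inter_closedPoints (isClosed_closure (s := ({xm} : Set X)))]
    refine closure_minimal ?_ J.support.isClosed
    rintro w ⟨hw, hwc⟩
    have hwc : IsClosed ({w} : Set X) := hwc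
    have hz : IsClosed ({ψ w} : Set Y) := by
      have := hψ _ hwc
      rwa [Set.image_singleton] at this
    have h1 : ψ x₀ ⤳ ψ w := by
      rw [← hxmψ]
      exact (specializes_iff_mem_closure.2 hw).map ψ.continuous
    have h2 : IsClosed (ψ '' closure {x₀}) := hψ _ isClosed_closure
    have h3 : ψ w ∈ ψ '' closure {x₀} := h1.mem_closed h2 ⟨x₀, subset_closure rfl, rfl⟩
    obtain ⟨v, hv, hvw⟩ := h3
    have hvJ : v ∈ J.support :=
      (closure_minimal (Set.singleton_subset_iff.2 hx₀J) J.support.isClosed) hv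
    exact hsat (ψ w) hz ⟨v, hvJ, hvw⟩ w rfl
  exact hclos (subset_closure rfl)

end K88.Zar
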